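import Groth.Prelude.Def_SpSeq
import Mathlib.Algebra.Homology.ShortComplex.Abelian
import Mathlib.CategoryTheory.Abelian.Basic

/-! Abstract spectral sequences: passage between pages, zero terms, abutment steps. -/

universe v u

open CategoryTheory CategoryTheory.Limits

set_option backward.defeqAttrib.useBackward true
set_option backward.isDefEq.respectTransparency false

namespace Groth.L10.SpSeqAbs

open SpSeq

variable {C : Type u} [Category.{v} C] [Abelian C] {r₀ : ℤ}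

section Complex

variable {ι : Type*} {c : ComplexShape ι} {K L : HomologicalComplex C c} (φ : K ⟶ L) (i : ι)

theorem isZero_homology (h : IsZero (K.X i)) : IsZero (K.homology i) :=
  (K.exactAt_iff_isZero_homology i).1 ((K.sc i).exact_of_isZero_X₂ h)

theorem homologyMap_eq_zero (h : φ.f i = 0) : HomologicalComplex.homologyMap φ i = 0 := by
  rw [← cancel_epi (K.homologyπ i), HomologicalComplex.homologyπ_naturality, comp_zero]
  have : HomologicalComplex.cyclesMap φ i = 0 := by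
    rw [← cancel_mono (L.iCycles i), HomologicalComplex.cyclesMap_i, h, comp_zero, zero_comp]
  rw [this, zero_comp]

theorem mono_homologyMap [Mono (φ.f i)] (hK : ∀ j, K.d j i = 0) (hL : ∀ j, L.d j i = 0) :
    Mono (HomologicalComplex.homologyMap φ i) := by
  have := K.isIso_homologyπ (c.prev i) i rfl (hK _)
  have := L.isIso_homologyπ (c.prev i) i rfl (hL _)
  have h : Mono (HomologicalComplex.cyclesMap φ i ≫ L.iCycles i) := by
    rw [HomologicalComplex.cyclesMap_i]; infer_instance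
  have : Mono (HomologicalComplex.cyclesMap φ i) := mono_of_mono _ (L.iCycles i)
  have h2 : HomologicalComplex.homologyMap φ i =
      inv (K.homologyπ i) ≫ HomologicalComplex.cyclesMap φ i ≫ L.homologyπ i := by
    rw [← HomologicalComplex.homologyπ_naturality, IsIso.inv_hom_id_assoc]
  rw [h2]; infer_instance

theorem nonempty_homology_iso (h₁ : ∀ j, K.d j i = 0) (h₂ : ∀ j, K.d i j = 0) :
    Nonempty (K.homology i ≅ K.X i) :=
  ⟨(ShortComplex.LeftHomologyData.ofZeros (K.sc i) (h₁ _) (h₂ _)).homologyIso⟩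

end Complex

variable (E : CohomologicalSpectralSequence C r₀)

theorem d_eq_zero (r : ℤ) (hr : r₀ ≤ r) (pq pq' : ℤ × ℤ)
    (h : pq + (r, 1 - r) = pq' → (E.page r hr).d pq pq' = 0) : (E.page r hr).d pq pq' = 0 := by
  by_cases e : pq + (r, 1 - r) = pq'
  · exact h e
  · exact (E.page r hr).shape _ _ e

theorem d_to (r : ℤ) (hr : r₀ ≤ r) (pq : ℤ × ℤ) (h : (E.page r hr).d (pq - (r, 1 - r)) pq = 0) (j : ℤ × ℤ) :
    (E.page r hr).d j pq = 0 :=
  d_eq_zero E r hr j pq fun e => by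
    obtain rfl : j = pq - (r, 1 - r) := eq_sub_of_add_eq e
    exact h

theorem d_from (r : ℤ) (hr : r₀ ≤ r) (pq : ℤ × ℤ) (h : (E.page r hr).d pq (pq + (r, 1 - r)) = 0) (j : ℤ × ℤ) :
    (E.page r hr).d pq j = 0 :=
  d_eq_zero E r hr pq j fun e => by subst e; exact h

theorem isZero_succ (r r' : ℤ) (h : r + 1 = r') (hr : r₀ ≤ r) (pq : ℤ × ℤ) (hz : IsZero ((E.page r hr).X pq)) :
    IsZero ((E.page r' (by omega)).X pq) :=
  (isZero_homology pq hz).of_iso (E.iso r r' pq h hr).symm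

theorem isZero_le (r r' : ℤ) (h : r ≤ r') (hr : r₀ ≤ r) (pq : ℤ × ℤ) (hz : IsZero ((E.page r hr).X pq)) :
    IsZero ((E.page r' (by omega)).X pq) := by
  obtain ⟨k, rfl⟩ : ∃ k : ℕ, r' = r + k := ⟨(r' - r).toNat, by omega⟩
  induction k with
  | zero => exact hz.of_iso (E.pageXIsoOfEq pq (r + ((0 : ℕ) : ℤ)) r (by simp) (by omega))
  | succ k ih => exact isZero_succ E (r + k) _ (by push_cast; omega) (by omega) pq (ih (by omega))

theorem nonempty_iso_le {pq : ℤ × ℤ} {r : ℤ} (hs : StationaryAt E pq r) (r' : ℤ) (h : r ≤ r') (h' : r₀ ≤ r') :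
    Nonempty ((E.page r' h').X pq ≅ (E.page r hs.1).X pq) := by
  obtain ⟨k, rfl⟩ : ∃ k : ℕ, r' = r + k := ⟨(r' - r).toNat, by omega⟩
  induction k with
  | zero => exact ⟨E.pageXIsoOfEq pq (r + ((0 : ℕ) : ℤ)) r (by simp) h'⟩
  | succ k ih =>
    obtain ⟨e⟩ := ih (by omega) (by have := hs.1; omega)
    have h₀ : r₀ ≤ r + k := by have := hs.1; omega
    obtain ⟨h₁, h₂⟩ := hs.2 (r + k) h₀ (by omega)
    obtain ⟨e'⟩ := nonempty_homology_iso pq (d_to E _ h₀ pq h₁) (d_from E _ h₀ pq h₂)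
    exact ⟨(E.iso (r + k) (r + ((k + 1 : ℕ) : ℤ)) pq (by push_cast; omega) h₀).symm ≪≫ e' ≪≫ e⟩

theorem nonempty_iso {pq : ℤ × ℤ} {r r' : ℤ} (hs : StationaryAt E pq r) (hs' : StationaryAt E pq r') :
    Nonempty ((E.page r hs.1).X pq ≅ (E.page r' hs'.1).X pq) := by
  obtain ⟨e⟩ := nonempty_iso_le E hs (max r r') (le_max_left _ _) (hs.1.trans (le_max_left _ _))
  obtain ⟨e'⟩ := nonempty_iso_le E hs' (max r r') (le_max_right _ _) (hs.1.trans (le_max_left _ _))
  exact ⟨e.symm ≪≫ e'⟩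

variable {H : ℤ → C} {E} (a : Abutment E H)

theorem isZero_gr (r : ℤ) (hr : r₀ ≤ r) (pq : ℤ × ℤ) (h : IsZero ((E.page r hr).X pq)) :
    IsZero (grPiece (a.fil (pq.1 + pq.2)) (a.anti (pq.1 + pq.2)) pq.1) := by
  refine IsZero.of_iso ?_ (a.β pq).symm
  have hm := isZero_le E r (max r (a.rk pq)) (le_max_left _ _) hr pq h
  obtain ⟨e⟩ := nonempty_iso_le E (a.stat pq) (max r (a.rk pq)) (le_max_right _ _) (hr.trans (le_max_left _ _))
  exact hm.of_iso e.symm

theorem β' (n p : ℤ) :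
    Nonempty ((E.page (a.rk (p, n - p)) (a.stat (p, n - p)).1).X (p, n - p) ≅ (a.filObj n).gr p) := by
  have e : (p, n - p).1 + (p, n - p).2 = n := by simp
  have h : Nonempty ((E.page (a.rk (p, n - p)) (a.stat (p, n - p)).1).X (p, n - p) ≅
      (a.filObj ((p, n - p).1 + (p, n - p).2)).gr p) := ⟨a.β (p, n - p)⟩
  rwa [e] at h

theorem isZero_filObj_gr (n p : ℤ) (r : ℤ) (hr : r₀ ≤ r) (h : IsZero ((E.page r hr).X (p, n - p))) :
    IsZero ((a.filObj n).gr p) := by
  obtain ⟨e⟩ := β' a n p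
  refine IsZero.of_iso ?_ e.symm
  exact (isZero_gr a r hr (p, n - p) h).of_iso (a.β (p, n - p))

section FilObj

variable (K : FilObj C)

theorem step_succ_eq (p : ℤ) (h : IsZero (K.gr p)) : K.fil (p + 1) = K.fil p := by
  have h0 : cokernel.π ((K.fil (p + 1)).ofLE (K.fil p) (K.anti (Int.le_add_one le_rfl))) = 0 := h.eq_of_tgt _ _
  have : Epi ((K.fil (p + 1)).ofLE (K.fil p) (K.anti (Int.le_add_one le_rfl))) :=
    Preadditive.epi_of_cokernel_zero h0
  have : IsIso ((K.fil (p + 1)).ofLE (K.fil p) (K.anti (Int.le_add_one le_rfl))) := isIso_of_mono_of_epi _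
  exact Subobject.eq_of_comm (asIso ((K.fil (p + 1)).ofLE (K.fil p) (K.anti (Int.le_add_one le_rfl))))
    (by simp)

theorem step_eq_of_le {a b : ℤ} (hab : a ≤ b) (h : ∀ p, a ≤ p → p < b → IsZero (K.gr p)) :
    K.fil a = K.fil b := by
  obtain ⟨k, rfl⟩ : ∃ k : ℕ, b = a + k := ⟨(b - a).toNat, by omega⟩
  induction k with
  | zero => simp
  | succ k ih =>
    rw [ih (by omega) (fun p h₁ h₂ => h p h₁ (by omega)), ← step_succ_eq K (a + k) (h _ (by omega) (by omega))]
    congr 1; push_cast; omega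

theorem fil_eq_top (hc : K.IsCodiscrete) (p₀ : ℤ) (h : ∀ p < p₀, IsZero (K.gr p)) : K.fil p₀ = ⊤ := by
  obtain ⟨a, ha⟩ := hc
  rcases le_total p₀ a with ha' | ha'
  · exact top_le_iff.1 (ha ▸ K.anti ha')
  · rw [← step_eq_of_le K ha' (fun p _ h₂ => h p h₂), ha]

theorem fil_eq_top_of_exhaustive (hc : K.IsExhaustive) (p₀ : ℤ) (h : ∀ p < p₀, IsZero (K.gr p)) :
    K.fil p₀ = ⊤ := by
  refine top_le_iff.1 ((isLUB_le_iff hc).2 ?_)
  rintro _ ⟨p, rfl⟩
  rcases le_total p₀ p with h' | h'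
  · exact K.anti h'
  · exact (step_eq_of_le K h' (fun q _ h₂ => h q h₂)).le

theorem fil_eq_bot (hd : K.IsDiscrete) (p₀ : ℤ) (h : ∀ p, p₀ ≤ p → IsZero (K.gr p)) : K.fil p₀ = ⊥ := by
  obtain ⟨b, hb⟩ := hd
  rcases le_total b p₀ with hb' | hb'
  · exact le_bot_iff.1 (hb ▸ K.anti hb')
  · rw [step_eq_of_le K hb' (fun p h₁ _ => h p h₁), hb]

theorem isIso_gr_π (p : ℤ) (hb : K.fil (p + 1) = ⊥) :
    IsIso (cokernel.π ((K.fil (p + 1)).ofLE (K.fil p) (K.anti (Int.le_add_one le_rfl)))) := by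
  have key : ∀ {X Y : C} (f : X ⟶ Y), f = 0 → IsIso (cokernel.π f) := by
    intro X Y f hf; subst hf; infer_instance
  refine key _ ?_
  rw [← cancel_mono (K.fil p).arrow, Subobject.ofLE_arrow, zero_comp]
  rw [hb]; exact Subobject.bot_arrow

end FilObj

end Groth.L10.SpSeqAbs
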