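import Groth.Agent.L10.SpSeq.Elem
import Mathlib.Algebra.Homology.Refinements
import Mathlib.Algebra.Homology.HomologicalComplexLimits
import Mathlib.Data.Int.Interval
import Mathlib.Data.Set.Finite.Basic

/-! Convergence criteria for the spectral sequence of a filtered complex. -/

universe v u

open CategoryTheory CategoryTheory.Limits HomologicalComplex

set_option backward.defeqAttrib.useBackward true
set_option backward.isDefEq.respectTransparency false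
namespace Groth.L10.SpSeqConv

open Groth.L10.SpSeqElem

variable {A : Type u} [Category.{v} A] [Abelian A] (K : SpSeq.FilCx A)

theorem mem_filX {p n : ℤ} {T : A} {x : T ⟶ K.obj.X n} :
    (K.filX p n).Factors x ↔ ∃ y : T ⟶ (K.fil p : CochainComplex A ℤ).X n, y ≫ (K.fil p).arrow.f n = x :=
  mem_mk _ _

theorem filX_le {p q : ℤ} (h : p ≤ q) (n : ℤ) : K.filX q n ≤ K.filX p n := K.filX_anti n h

theorem mem_le {p q : ℤ} (h : p ≤ q) {n : ℤ} {T : A} {x : T ⟶ K.obj.X n} (hx : (K.filX q n).Factors x) :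
    (K.filX p n).Factors x := Subobject.factors_of_le x (filX_le K h n) hx

theorem mem_d {p : ℤ} {n m : ℤ} {T : A} {x : T ⟶ K.obj.X n} (hx : (K.filX p n).Factors x) :
    (K.filX p m).Factors (x ≫ K.obj.d n m) := by
  obtain ⟨y, rfl⟩ := (mem_filX K).1 hx
  exact (mem_filX K).2 ⟨y ≫ (K.fil p : CochainComplex A ℤ).d n m, by simp [Hom.comm]⟩

theorem mono_fil (p n : ℤ) : Mono ((K.fil p).arrow.f n) :=
  inferInstanceAs (Mono ((eval A (ComplexShape.up ℤ) n).map (K.fil p).arrow))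

theorem mem_ZSub_of {r : ℕ} {p n : ℤ} {T : A} {u w : T ⟶ K.obj.X n} (hu : (K.filX p n).Factors u)
    (hdu : (K.filX (p + r) (n + 1)).Factors (u ≫ K.obj.d n (n + 1))) (hw : (K.filX (p + 1) n).Factors w) :
    (K.ZSub r p n).Factors (u + w) :=
  mem_sup_of ((Subobject.inf_factors _).2 ⟨hu, mem_pullback.2 hdu⟩) hw

theorem mem_ZSub {r : ℕ} {p n : ℤ} {T : A} {x : T ⟶ K.obj.X n} (h : (K.ZSub r p n).Factors x) :
    ∃ (T' : A) (e : T' ⟶ T) (_ : Epi e) (u w : T' ⟶ K.obj.X n), (K.filX p n).Factors u ∧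
      (K.filX (p + r) (n + 1)).Factors (u ≫ K.obj.d n (n + 1)) ∧ (K.filX (p + 1) n).Factors w ∧ e ≫ x = u + w := by
  obtain ⟨T', e, he, u, w, hu, hw, h⟩ := mem_sup h
  exact ⟨T', e, he, u, w, ((Subobject.inf_factors _).1 hu).1, mem_pullback.1 ((Subobject.inf_factors _).1 hu).2, hw, h⟩

theorem mem_ZTop_of {p n : ℤ} {T : A} {u w : T ⟶ K.obj.X n} (hu : (K.filX p n).Factors u)
    (hdu : u ≫ K.obj.d n (n + 1) = 0) (hw : (K.filX (p + 1) n).Factors w) : (K.ZTop p n).Factors (u + w) :=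
  mem_sup_of ((Subobject.inf_factors _).2 ⟨hu, mem_kernel.2 hdu⟩) hw

theorem mem_BSub_of {r : ℕ} {p n : ℤ} {T : A} {t : T ⟶ K.obj.X (n - 1)} {w : T ⟶ K.obj.X n}
    (ht : (K.filX (p - r + 1) (n - 1)).Factors t) (hdt : (K.filX p n).Factors (t ≫ K.obj.d (n - 1) n))
    (hw : (K.filX (p + 1) n).Factors w) : (K.BSub r p n).Factors (t ≫ K.obj.d (n - 1) n + w) := by
  refine mem_sup_of ((Subobject.inf_factors _).2 ⟨hdt, ?_⟩) hw
  have := mem_image_of ((K.filX (p - r + 1) (n - 1)).arrow ≫ K.obj.d (n - 1) n) (Subobject.factorThru _ t ht)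
  rwa [← Category.assoc, Subobject.factorThru_arrow] at this

theorem mem_BBot {p n : ℤ} {T : A} {x : T ⟶ K.obj.X n} (h : (K.BBot p n).Factors x) :
    ∃ (T' : A) (e : T' ⟶ T) (_ : Epi e) (t : T' ⟶ K.obj.X (n - 1)) (w : T' ⟶ K.obj.X n),
      (K.filX p n).Factors (t ≫ K.obj.d (n - 1) n) ∧ (K.filX (p + 1) n).Factors w ∧
        e ≫ x = t ≫ K.obj.d (n - 1) n + w := by
  obtain ⟨T', e, he, u, w, hu, hw, h⟩ := mem_sup h
  obtain ⟨hu1, hu2⟩ := (Subobject.inf_factors _).1 hu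
  obtain ⟨T'', e', he', t, ht⟩ := mem_image hu2
  refine ⟨T'', e' ≫ e, epi_comp _ _, t, e' ≫ w, ht ▸ mem_comp e' hu1, mem_comp e' hw, ?_⟩
  rw [Category.assoc, h, Preadditive.comp_add, ht]

theorem BSub_le_BBot (r : ℕ) (p n : ℤ) : K.BSub r p n ≤ K.BBot p n :=
  sup_le_sup_right (inf_le_inf_left _ (imageSubobject_comp_le _ _)) _

theorem ZTop_le_ZSub (r : ℕ) (p n : ℤ) : K.ZTop p n ≤ K.ZSub r p n :=
  sup_le_sup_right (inf_le_inf_left _ (SpSeq.FilCx.kernelSubobject_le_pullback _ _)) _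

theorem converges_of
    (hZ : ∀ p n : ℤ, ∃ r₀ : ℕ, ∀ r, r₀ ≤ r → K.ZSub r p n = K.ZTop p n)
    (hB : ∀ p n : ℤ, ∃ r₀ : ℕ, ∀ r, r₀ ≤ r → K.BSub r p n = K.BBot p n)
    (hF : ∀ n : ℤ, (K.HFil n).IsFinite) : K.Converges := by
  refine ⟨fun p n => ?_, ⟨fun p n => ⟨?_, ?_⟩, fun n => ⟨(finite_props _ (hF n)).1, (finite_props _ (hF n)).2.1⟩⟩,
    fun n => (finite_props _ (hF n)).2.2⟩
  · obtain ⟨r₀, h⟩ := hZ p n
    exact ⟨r₀, fun r hr => (h r hr).trans (h r₀ le_rfl).symm⟩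
  · obtain ⟨r₀, h⟩ := hZ p n
    exact ⟨fun s ⟨r, hr⟩ => hr ▸ ZTop_le_ZSub K r p n, fun s hs => h r₀ le_rfl ▸ hs ⟨r₀, rfl⟩⟩
  · obtain ⟨r₀, h⟩ := hB p n
    exact ⟨fun s ⟨r, hr⟩ => hr ▸ BSub_le_BBot K r p n, fun s hs => h r₀ le_rfl ▸ hs ⟨r₀, rfl⟩⟩

theorem isBounded_of {r : ℕ} (h : ∀ n : ℤ, ∃ a b : ℤ, ∀ p : ℤ, p < a ∨ b ≤ p → IsZero (K.E r p n)) :
    K.IsBounded r := fun n => by
  obtain ⟨a, b, h⟩ := h n
  refine (Finset.finite_toSet (Finset.Ico a b)).subset fun p hp => ?_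
  simp only [Finset.coe_Ico, Set.mem_Ico]
  by_contra hc
  exact hp (h p (by omega))

/-! ### Finite filtrations -/

theorem converges_finite (hK : ∀ n : ℤ, (K.XFil n).IsFinite) :
    K.IsBounded 0 ∧ (∀ n : ℤ, (K.HFil n).IsFinite) ∧ K.Converges := by
  have htop : ∀ n, ∃ a : ℤ, ∀ p ≤ a, ∀ ⦃T : A⦄ (x : T ⟶ K.obj.X n), (K.filX p n).Factors x := fun n => by
    obtain ⟨a, ha⟩ := (hK n).1
    exact ⟨a, fun p hp T x => mem_le K hp (by change ((K.XFil n).fil a).Factors x; rw [ha]; exact Subobject.top_factors _)⟩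
  have hbot : ∀ n, ∃ b : ℤ, ∀ p, b ≤ p → ∀ ⦃T : A⦄ (x : T ⟶ K.obj.X n), (K.filX p n).Factors x → x = 0 := fun n => by
    obtain ⟨b, hb⟩ := (hK n).2
    refine ⟨b, fun p hp T x hx => ?_⟩
    have h : ((K.XFil n).fil b).Factors x := mem_le K hp hx
    rw [hb] at h
    exact (Subobject.bot_factors_iff_zero _).1 h
  have hH : ∀ n : ℤ, (K.HFil n).IsFinite := fun n => by
    obtain ⟨a, ha⟩ := htop n
    obtain ⟨b, hb⟩ := hbot n
    refine ⟨⟨a, ?_⟩, b, ?_⟩
    · have : Epi (HomologicalComplex.homologyMap (K.fil a).arrow n) := by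
        rw [epi_homologyMap_iff_up_to_refinements _ (n - 1) n (n + 1) (by simp) (by simp)]
        intro T x hx
        obtain ⟨y, hy⟩ := (mem_filX K).1 (ha a le_rfl x)
        have := mono_fil K a (n + 1)
        refine ⟨T, 𝟙 _, inferInstance, y, ?_, 0, by simp [hy]⟩
        rw [← cancel_mono ((K.fil a).arrow.f (n + 1)), Category.assoc, ← Hom.comm, reassoc_of% hy, hx, zero_comp]
      exact imageSubobject_eq_top _
    · refine imageSubobject_eq_bot ?_
      have hf : (K.fil b).arrow.f n = 0 := hb b le_rfl _ ((mem_filX K).2 ⟨𝟙 _, Category.id_comp _⟩)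
      rw [← cancel_epi ((K.fil b : CochainComplex A ℤ).homologyπ n), homologyπ_naturality, comp_zero]
      have : cyclesMap (K.fil b).arrow n = 0 := by
        rw [← cancel_mono (K.obj.iCycles n), cyclesMap_i, hf, comp_zero, zero_comp]
      rw [this, zero_comp]
  refine ⟨isBounded_of K fun n => ?_, hH, converges_of K (fun p n => ?_) (fun p n => ?_) hH⟩
  · obtain ⟨a, ha⟩ := htop n
    obtain ⟨b, hb⟩ := hbot n
    refine ⟨a, b, fun p hp => isZero_subquot _ (le_of_mem fun T x hx => ⟨T, 𝟙 T, inferInstance, ?_⟩)⟩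
    rw [Category.id_comp]
    rcases hp with hp | hp
    · exact Subobject.sup_factors_of_factors_right (ha (p + 1) (by omega) x)
    · obtain ⟨T', e, he, u, w, hu, -, hw, h⟩ := mem_ZSub K hx
      refine mem_of_epi e ?_
      rw [h, hb p hp u hu, zero_add]
      exact Subobject.sup_factors_of_factors_right hw
  · obtain ⟨b, hb⟩ := hbot (n + 1)
    refine ⟨(b - p).toNat, fun r hr => le_antisymm (le_of_mem fun T x hx => ?_) (ZTop_le_ZSub K r p n)⟩
    obtain ⟨T', e, he, u, w, hu, hdu, hw, h⟩ := mem_ZSub K hx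
    exact ⟨T', e, he, h ▸ mem_ZTop_of K hu (hb _ (by omega) _ hdu) hw⟩
  · obtain ⟨a, ha⟩ := htop (n - 1)
    refine ⟨(p + 1 - a).toNat, fun r hr => le_antisymm (BSub_le_BBot K r p n) (le_of_mem fun T x hx => ?_)⟩
    obtain ⟨T', e, he, t, w, ht, hw, h⟩ := mem_BBot K hx
    exact ⟨T', e, he, h ▸ mem_BSub_of K (ha _ (by omega) t) ht hw⟩

/-! ### Criterion on the cohomology of the steps -/

theorem cycle_boundary {p m n : ℤ} (hmn : m + 1 = n) (hz : IsZero ((K.fil p : CochainComplex A ℤ).homology n)) {T : A}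
    {z : T ⟶ K.obj.X n} (hzp : (K.filX p n).Factors z) (hdz : z ≫ K.obj.d n (n + 1) = 0) :
    ∃ (T' : A) (e : T' ⟶ T) (_ : Epi e) (t : T' ⟶ K.obj.X m),
      (K.filX p m).Factors t ∧ e ≫ z = t ≫ K.obj.d m n := by
  obtain ⟨y, rfl⟩ := (mem_filX K).1 hzp
  have := mono_fil K p (n + 1)
  have hy : y ≫ (K.fil p : CochainComplex A ℤ).d n (n + 1) = 0 := by
    rw [← cancel_mono ((K.fil p).arrow.f (n + 1)), Category.assoc, ← Hom.comm, zero_comp, ← Category.assoc]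
    exact hdz
  obtain ⟨T', e, he, w, hw⟩ := ((K.fil p : CochainComplex A ℤ).exactAt_iff_exact_up_to_refinements m n (n + 1)
    (by simp; omega) (by simp)).1 ((exactAt_iff_isZero_homology _ n).2 hz) y hy
  refine ⟨T', e, he, w ≫ (K.fil p).arrow.f m, (mem_filX K).2 ⟨w, rfl⟩, ?_⟩
  rw [reassoc_of% hw, ← Hom.comm, Category.assoc]

theorem boundary_lift {p m n : ℤ} (hmn : m + 1 = n) (hp : Mono (HomologicalComplex.homologyMap (K.fil p).arrow n)) {T : A}
    {t : T ⟶ K.obj.X m} (hdt : (K.filX p n).Factors (t ≫ K.obj.d m n)) :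
    ∃ (T' : A) (e : T' ⟶ T) (_ : Epi e) (t' : T' ⟶ K.obj.X m),
      (K.filX p m).Factors t' ∧ e ≫ t ≫ K.obj.d m n = t' ≫ K.obj.d m n := by
  obtain ⟨y, hy⟩ := (mem_filX K).1 hdt
  have := mono_fil K p (n + 1)
  have hy' : y ≫ (K.fil p : CochainComplex A ℤ).d n (n + 1) = 0 := by
    rw [← cancel_mono ((K.fil p).arrow.f (n + 1)), Category.assoc, ← Hom.comm, reassoc_of% hy, zero_comp]
    simp
  obtain ⟨T', e, he, w, hw⟩ := (mono_homologyMap_iff_up_to_refinements _ m n (n + 1) (by simp; omega) (by simp)).1 hp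
    y hy' t hy
  refine ⟨T', e, he, w ≫ (K.fil p).arrow.f m, (mem_filX K).2 ⟨w, rfl⟩, ?_⟩
  rw [← hy, reassoc_of% hw, ← Hom.comm, Category.assoc]

theorem cycle_lift {p n : ℤ} (hp : Epi (HomologicalComplex.homologyMap (K.fil p).arrow n)) {T : A}
    {z : T ⟶ K.obj.X n} (hdz : z ≫ K.obj.d n (n + 1) = 0) :
    ∃ (T' : A) (e : T' ⟶ T) (_ : Epi e) (v : T' ⟶ K.obj.X n) (t : T' ⟶ K.obj.X (n - 1)),
      (K.filX p n).Factors v ∧ e ≫ z = v + t ≫ K.obj.d (n - 1) n := by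
  obtain ⟨T', e, he, x, hx, y, hy⟩ := (epi_homologyMap_iff_up_to_refinements _ (n - 1) n (n + 1) (by simp) (by simp)).1 hp
    z hdz
  exact ⟨T', e, he, x ≫ (K.fil p).arrow.f n, y, (mem_filX K).2 ⟨x, rfl⟩, hy⟩

theorem converges_homology (h0 : ∀ n : ℤ, ∃ p₀ : ℤ, ∀ p : ℤ, p₀ ≤ p → IsZero ((K.fil p : CochainComplex A ℤ).homology n))
    (h1 : ∀ n : ℤ, ∃ p₁ : ℤ, ∀ p : ℤ, p ≤ p₁ → IsIso (HomologicalComplex.homologyMap (K.fil p).arrow n)) :
    K.IsBounded 1 ∧ (∀ n : ℤ, (K.HFil n).IsFinite) ∧ K.Converges := by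
  have hH : ∀ n : ℤ, (K.HFil n).IsFinite := fun n => by
    obtain ⟨b, hb⟩ := h0 n
    obtain ⟨a, ha⟩ := h1 n
    have := ha a le_rfl
    exact ⟨⟨a, imageSubobject_eq_top _⟩, b, imageSubobject_eq_bot ((hb b le_rfl).eq_of_src _ _)⟩
  refine ⟨isBounded_of K fun n => ?_, hH, converges_of K (fun p n => ?_) (fun p n => ?_) hH⟩
  · obtain ⟨b, hb⟩ := h0 n
    obtain ⟨b', hb'⟩ := h0 (n + 1)
    obtain ⟨a, ha⟩ := h1 n
    obtain ⟨a', ha'⟩ := h1 (n + 1)
    refine ⟨min a a', max b b', fun p hp => isZero_subquot _ (le_of_mem fun T x hx => ?_)⟩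
    obtain ⟨T₁, e₁, he₁, u, w, hu, hdu, hw, h⟩ := mem_ZSub K hx
    simp only [Nat.cast_one] at hdu
    rcases hp with hp | hp
    · have := ha' (p + 1) (by omega)
      obtain ⟨T₂, e₂, he₂, s', hs', hse'⟩ := boundary_lift K (p := p + 1) (m := n) (n := n + 1) rfl inferInstance hdu
      have hcyc : (e₂ ≫ u - s') ≫ K.obj.d n (n + 1) = 0 := by
        rw [Preadditive.sub_comp, Category.assoc, hse', sub_self]
      have := ha (p + 1) (by omega)
      obtain ⟨T₃, e₃, he₃, v, t, hv, ht⟩ := cycle_lift K (p := p + 1) inferInstance hcyc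
      have := ha p (by omega)
      have htp : (K.filX p n).Factors (t ≫ K.obj.d (n - 1) n) := by
        have he : t ≫ K.obj.d (n - 1) n = e₃ ≫ (e₂ ≫ u - s') - v := by rw [ht]; abel
        rw [he]
        exact mem_sub (mem_comp e₃ (mem_sub (mem_comp e₂ hu) (mem_le K (by omega) hs'))) (mem_le K (by omega) hv)
      obtain ⟨T₄, e₄, he₄, t', ht', hdt'⟩ := boundary_lift K (p := p) (m := n - 1) (n := n) (by omega) inferInstance htp
      refine ⟨T₄, e₄ ≫ e₃ ≫ e₂ ≫ e₁, inferInstance, ?_⟩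
      have hval : (e₄ ≫ e₃ ≫ e₂ ≫ e₁) ≫ x = t' ≫ K.obj.d (n - 1) n +
          (e₄ ≫ (e₃ ≫ e₂ ≫ w + e₃ ≫ s' + v)) := by
        rw [← hdt']
        simp only [Category.assoc, h, Preadditive.comp_add]
        have he : e₃ ≫ e₂ ≫ u = v + t ≫ K.obj.d (n - 1) n + e₃ ≫ s' := by
          rw [← ht]; simp [Preadditive.comp_sub]
        rw [he]
        simp only [Preadditive.comp_add]
        abel
      rw [hval]
      exact mem_BSub_of K (by simpa using ht') (mem_d K ht')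
        (mem_comp e₄ (Subobject.factors_add _ _ (Subobject.factors_add _ _ (mem_comp e₃ (mem_comp e₂ hw))
          (mem_comp e₃ hs')) hv))
    · obtain ⟨T₂, e₂, he₂, s', hs', hse'⟩ :=
        cycle_boundary K (m := n) (n := n + 1) rfl (hb' (p + 1) (by omega)) hdu (by simp)
      have hcyc : (e₂ ≫ u - s') ≫ K.obj.d n (n + 1) = 0 := by
        rw [Preadditive.sub_comp, Category.assoc, hse', sub_self]
      obtain ⟨T₃, e₃, he₃, t, ht, hte⟩ := cycle_boundary K (m := n - 1) (n := n) (by omega) (hb p (by omega))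
        (mem_sub (mem_comp e₂ hu) (mem_le K (by omega) hs')) hcyc
      refine ⟨T₃, e₃ ≫ e₂ ≫ e₁, inferInstance, ?_⟩
      have hval : (e₃ ≫ e₂ ≫ e₁) ≫ x = t ≫ K.obj.d (n - 1) n + (e₃ ≫ e₂ ≫ w + e₃ ≫ s') := by
        rw [← hte]
        simp only [Category.assoc, h, Preadditive.comp_add, Preadditive.comp_sub]
        abel
      rw [hval]
      exact mem_BSub_of K (by simpa using ht) (mem_d K ht)
        (Subobject.factors_add _ _ (mem_comp e₃ (mem_comp e₂ hw)) (mem_comp e₃ hs'))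
  · obtain ⟨b, hb⟩ := h0 (n + 1)
    refine ⟨(b - p).toNat + 1, fun r hr => le_antisymm (le_of_mem fun T x hx => ?_) (ZTop_le_ZSub K r p n)⟩
    obtain ⟨T₁, e₁, he₁, u, w, hu, hdu, hw, h⟩ := mem_ZSub K hx
    obtain ⟨T₂, e₂, he₂, s', hs', hse'⟩ :=
      cycle_boundary K (m := n) (n := n + 1) rfl (hb (p + r) (by omega)) hdu (by simp)
    refine ⟨T₂, e₂ ≫ e₁, epi_comp _ _, ?_⟩
    have hval : (e₂ ≫ e₁) ≫ x = (e₂ ≫ u - s') + (e₂ ≫ w + s') := by
      simp only [Category.assoc, h, Preadditive.comp_add]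
      abel
    rw [hval]
    exact mem_ZTop_of K (mem_sub (mem_comp e₂ hu) (mem_le K (by omega) hs'))
      (by rw [Preadditive.sub_comp, Category.assoc, hse', sub_self])
      (Subobject.factors_add _ _ (mem_comp e₂ hw) (mem_le K (by omega) hs'))
  · obtain ⟨a, ha⟩ := h1 n
    refine ⟨(p + 1 - a).toNat + 1, fun r hr => le_antisymm (BSub_le_BBot K r p n) (le_of_mem fun T x hx => ?_)⟩
    obtain ⟨T₁, e₁, he₁, t, w, ht, hw, h⟩ := mem_BBot K hx
    have := ha (p - r + 1) (by omega)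
    obtain ⟨T₂, e₂, he₂, t', ht', hte⟩ := boundary_lift K (p := p - r + 1) (m := n - 1) (n := n) (by omega) inferInstance (mem_le K (by omega) ht)
    refine ⟨T₂, e₂ ≫ e₁, epi_comp _ _, ?_⟩
    have hval : (e₂ ≫ e₁) ≫ x = t' ≫ K.obj.d (n - 1) n + e₂ ≫ w := by
      rw [Category.assoc, h, Preadditive.comp_add, hte]
    rw [hval]
    exact mem_BSub_of K ht' (hte ▸ mem_comp e₂ ht) (mem_comp e₂ hw)

end Groth.L10.SpSeqConv
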