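import Groth.Agent.L10.SpSeq.Abstract
import Mathlib.Algebra.Category.ModuleCat.Abelian
import Mathlib.Algebra.Category.ModuleCat.Kernels
import Mathlib.Algebra.Category.ModuleCat.Subobject
import Mathlib.Algebra.Homology.ShortComplex.ModuleCat
import Mathlib.LinearAlgebra.Dimension.RankNullity
import Mathlib.LinearAlgebra.FiniteDimensional.Basic
import Mathlib.LinearAlgebra.FiniteDimensional.Lemmas
import Mathlib.LinearAlgebra.Dimension.DivisionRing
import Mathlib.RingTheory.Noetherian.Basic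
import Mathlib.Data.Int.Interval
import Mathlib.Algebra.BigOperators.Intervals

/-! Dimension counting in spectral sequences of vector spaces. -/

universe v u

open CategoryTheory CategoryTheory.Limits

set_option backward.defeqAttrib.useBackward true
set_option backward.isDefEq.respectTransparency false

namespace Groth.L10.SpSeqDim

variable {K : Type u} [Field K]

theorem finite_of_iso {M N : ModuleCat.{v} K} (e : M ≅ N) [Module.Finite K M] : Module.Finite K N :=
  Module.Finite.equiv e.toLinearEquiv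

theorem finrank_iso {M N : ModuleCat.{v} K} (e : M ≅ N) : Module.finrank K M = Module.finrank K N :=
  e.toLinearEquiv.finrank_eq

theorem sc_finrank (S : ShortComplex (ModuleCat.{v} K)) [Module.Finite K S.X₂] :
    Module.Finite K S.homology ∧ Module.finrank K S.homology ≤ Module.finrank K S.X₂ ∧
      (Module.finrank K S.homology = Module.finrank K S.X₂ → S.f = 0 ∧ S.g = 0) := by
  have e := S.moduleCatHomologyIso.toLinearEquiv
  set R := LinearMap.range S.moduleCatToCycles with hR
  have hA : Module.finrank K (LinearMap.range S.g.hom) + Module.finrank K (LinearMap.ker S.g.hom) =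
      Module.finrank K S.X₂ := LinearMap.finrank_range_add_finrank_ker _
  have hB := R.finrank_quotient_add_finrank
  have he : Module.finrank K S.homology = Module.finrank K (LinearMap.ker S.g.hom ⧸ R) := e.finrank_eq
  have : Module.Finite K (LinearMap.ker S.g.hom ⧸ R) := inferInstance
  refine ⟨Module.Finite.equiv (M := LinearMap.ker S.g.hom ⧸ R) e.symm, by omega, fun h => ⟨?_, ?_⟩⟩
  · have h0 : R = ⊥ := Submodule.finrank_eq_zero.1 (by omega)
    ext x
    have : S.moduleCatToCycles x = 0 := LinearMap.congr_fun (LinearMap.range_eq_bot.1 h0) x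
    simpa using congrArg Subtype.val this
  · have h0 : LinearMap.range S.g.hom = ⊥ := Submodule.finrank_eq_zero.1 (by omega)
    ext x
    exact LinearMap.congr_fun (LinearMap.range_eq_bot.1 h0) x

variable {r₀ : ℤ} (E : CohomologicalSpectralSequence (ModuleCat.{v} K) r₀) (pq : ℤ × ℤ)

theorem succ (r : ℤ) (hr : r₀ ≤ r) (hf : Module.Finite K ((E.page r hr).X pq)) :
    Module.Finite K ((E.page (r + 1) (by omega)).X pq) ∧
      Module.finrank K ((E.page (r + 1) (by omega)).X pq) ≤ Module.finrank K ((E.page r hr).X pq) ∧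
      (Module.finrank K ((E.page (r + 1) (by omega)).X pq) = Module.finrank K ((E.page r hr).X pq) →
        (∀ j, (E.page r hr).d j pq = 0) ∧ ∀ j, (E.page r hr).d pq j = 0) := by
  have : Module.Finite K ((E.page r hr).sc pq).X₂ := hf
  obtain ⟨h₁, h₂, h₃⟩ := sc_finrank ((E.page r hr).sc pq)
  have e : ((E.page r hr).sc pq).homology ≅ (E.page (r + 1) (by omega)).X pq := E.iso r (r + 1) pq rfl hr
  refine ⟨finite_of_iso e, by rw [← finrank_iso e]; exact h₂, fun h => ?_⟩
  obtain ⟨hin, hout⟩ := h₃ (by rw [finrank_iso e]; exact h)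
  refine ⟨Groth.L10.SpSeqAbs.d_to E r hr pq ?_, Groth.L10.SpSeqAbs.d_from E r hr pq ?_⟩
  · rw [← (ComplexShape.up' ((r, 1 - r) : ℤ × ℤ)).prev_eq' (sub_add_cancel pq ((r, 1 - r) : ℤ × ℤ))]
    exact hin
  · rw [← (ComplexShape.up' ((r, 1 - r) : ℤ × ℤ)).next_eq' (rfl : pq + (r, 1 - r) = pq + (r, 1 - r))]
    exact hout

theorem page_le (h₀ : Module.Finite K ((E.page r₀ le_rfl).X pq)) :
    ∀ k : ℕ, Module.Finite K ((E.page (r₀ + k) (by omega)).X pq) ∧
      Module.finrank K ((E.page (r₀ + k) (by omega)).X pq) ≤ Module.finrank K ((E.page r₀ le_rfl).X pq) ∧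
      (Module.finrank K ((E.page (r₀ + k) (by omega)).X pq) = Module.finrank K ((E.page r₀ le_rfl).X pq) →
        ∀ i : ℕ, i < k → (∀ j, (E.page (r₀ + i) (by omega)).d j pq = 0) ∧
          ∀ j, (E.page (r₀ + i) (by omega)).d pq j = 0) := by
  intro k
  induction k with
  | zero =>
    have e := E.pageXIsoOfEq pq r₀ (r₀ + ((0 : ℕ) : ℤ)) (by simp) le_rfl
    exact ⟨finite_of_iso e, (finrank_iso e).ge, fun _ i hi => absurd hi (by omega)⟩
  | succ k ih =>
    obtain ⟨hf, hle, heq⟩ := ih
    obtain ⟨hf', hle', heq'⟩ := succ E pq (r₀ + k) (by omega) hf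
    have e := E.pageXIsoOfEq pq (r₀ + k + 1) (r₀ + ((k + 1 : ℕ) : ℤ)) (by push_cast; omega) (by omega)
    rw [← finrank_iso e]
    refine ⟨finite_of_iso e, hle'.trans hle, fun h i hi => ?_⟩
    rcases Nat.lt_succ_iff_lt_or_eq.1 hi with hi' | rfl
    · exact heq (le_antisymm hle (h.symm.le.trans hle')) i hi'
    · exact heq' (le_antisymm hle' (hle.trans h.symm.le))

theorem stationary_from_start {r : ℤ} (hs : SpSeq.StationaryAt E pq r)
    (h₀ : Module.Finite K ((E.page r₀ le_rfl).X pq)) :
    Module.finrank K ((E.page r hs.1).X pq) ≤ Module.finrank K ((E.page r₀ le_rfl).X pq) ∧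
      (Module.finrank K ((E.page r hs.1).X pq) = Module.finrank K ((E.page r₀ le_rfl).X pq) →
        SpSeq.StationaryAt E pq r₀) := by
  obtain ⟨k, rfl⟩ : ∃ k : ℕ, r = r₀ + k := ⟨(r - r₀).toNat, by have := hs.1; omega⟩
  obtain ⟨-, hle, heq⟩ := page_le E pq h₀ k
  refine ⟨hle, fun h => ⟨le_rfl, fun r' hr' _ => ?_⟩⟩
  obtain ⟨i, rfl⟩ : ∃ i : ℕ, r' = r₀ + i := ⟨(r' - r₀).toNat, by omega⟩
  by_cases hi : i < k
  · obtain ⟨a, b⟩ := heq h i hi
    exact ⟨a _, b _⟩
  · exact hs.2 _ hr' (by omega)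

theorem stationary_of_isZero (hz : IsZero ((E.page r₀ le_rfl).X pq)) : SpSeq.StationaryAt E pq r₀ :=
  ⟨le_rfl, fun r' h₀ _ =>
    ⟨(Groth.L10.SpSeqAbs.isZero_le E r₀ r' h₀ le_rfl pq hz).eq_of_tgt _ _,
      (Groth.L10.SpSeqAbs.isZero_le E r₀ r' h₀ le_rfl pq hz).eq_of_src _ _⟩⟩

theorem finrank_eq_zero {M : ModuleCat.{v} K} (h : IsZero M) : Module.finrank K M = 0 := by
  have := ModuleCat.subsingleton_of_isZero h
  exact Module.finrank_zero_of_subsingleton

theorem gr_finrank (F : SpSeq.FilObj (ModuleCat.{v} K)) [Module.Finite K F.obj] (p : ℤ) :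
    Module.finrank K (F.gr p) + Module.finrank K (F.step (p + 1)) = Module.finrank K (F.step p) := by
  have hm : ∀ q, Module.Finite K (F.step q) := fun q =>
    Module.Finite.of_injective (F.fil q).arrow.hom ((ModuleCat.mono_iff_injective _).1 inferInstance)
  have := hm p
  have := hm (p + 1)
  let f : F.step (p + 1) ⟶ F.step p := F.stepLE (Int.le_add_one (le_refl p))
  have hf : Function.Injective f.hom := (ModuleCat.mono_iff_injective f).1 inferInstance
  have e : F.gr p ≅ ModuleCat.of K ((F.step p) ⧸ LinearMap.range f.hom) :=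
    ModuleCat.cokernelIsoRangeQuotient f
  rw [finrank_iso e, ← LinearMap.finrank_range_of_inj hf]
  exact Submodule.finrank_quotient_add_finrank _

theorem sum_gr (F : SpSeq.FilObj (ModuleCat.{v} K)) [Module.Finite K F.obj] (a : ℤ) (m : ℕ) :
    ∑ i ∈ Finset.range m, Module.finrank K (F.gr (a + i)) + Module.finrank K (F.step (a + m)) =
      Module.finrank K (F.step a) := by
  induction m with
  | zero => rw [show a + ((0 : ℕ) : ℤ) = a by simp]; simp
  | succ m ih =>
    rw [Finset.sum_range_succ, add_assoc]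
    have := gr_finrank F (a + m)
    rw [show a + ((m + 1 : ℕ) : ℤ) = a + m + 1 by push_cast; omega, this]
    exact ih

theorem sum_gr_Icc (F : SpSeq.FilObj (ModuleCat.{v} K)) [Module.Finite K F.obj] (hf : F.IsFinite) (n : ℤ)
    (hz : ∀ p, p < 0 ∨ n < p → IsZero (F.gr p)) :
    ∑ p ∈ Finset.Icc (0 : ℤ) n, Module.finrank K (F.gr p) = Module.finrank K F.obj := by
  have htop : F.fil 0 = ⊤ := Groth.L10.SpSeqAbs.fil_eq_top F hf.1 0 fun p hp => hz p (Or.inl hp)
  have : IsIso (F.fil 0).arrow := (Subobject.isIso_arrow_iff_eq_top _).2 htop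
  have hbot : ∀ p, 0 ≤ p → n < p → Module.finrank K (F.step p) = 0 := fun p h₁ h₂ => by
    refine finrank_eq_zero ?_
    have hb : F.fil p = ⊥ := Groth.L10.SpSeqAbs.fil_eq_bot F hf.2 p fun q hq => hz q (Or.inr (by omega))
    have key : ∀ S : Subobject F.obj, S = ⊥ → S.arrow = 0 := by
      rintro S rfl; exact Subobject.bot_arrow
    rw [IsZero.iff_id_eq_zero, ← cancel_mono (F.fil p).arrow, Category.id_comp, zero_comp]
    exact key _ hb
  have h0 : Module.finrank K (F.step 0) = Module.finrank K F.obj := finrank_iso (asIso (F.fil 0).arrow)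
  obtain ⟨m, hm⟩ : ∃ m : ℕ, m = (n + 1).toNat := ⟨_, rfl⟩
  have h := sum_gr F 0 m
  rw [hbot (0 + m) (by omega) (by omega), add_zero, h0] at h
  rw [← h]
  refine Finset.sum_bij' (fun p _ => p.toNat) (fun i _ => (i : ℤ)) ?_ ?_ ?_ ?_ ?_
  all_goals intro p hp
  all_goals simp only [Finset.mem_Icc, Finset.mem_range] at hp ⊢
  all_goals (try omega)
  rw [show (0 : ℤ) + (p.toNat : ℤ) = p by omega]

end Groth.L10.SpSeqDim
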