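import Groth.Prelude.Def_SpSeq
import Mathlib.CategoryTheory.Subobject.Limits
import Mathlib.CategoryTheory.Subobject.FactorThru
import Mathlib.CategoryTheory.Abelian.Refinements

/-! Generalised-element calculus for subobjects in abelian categories. -/

universe v u

open CategoryTheory CategoryTheory.Limits

set_option backward.defeqAttrib.useBackward true
set_option backward.isDefEq.respectTransparency false
namespace Groth.L10.SpSeqElem

variable {A : Type u} [Category.{v} A] [Abelian A] {X Y : A}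

theorem mem_of_epi {S : Subobject X} {T T' : A} (e : T' ⟶ T) [Epi e] {x : T ⟶ X} (h : S.Factors (e ≫ x)) :
    S.Factors x := by
  have h0 : x ≫ cokernel.π S.arrow = 0 := by
    rw [← cancel_epi e, comp_zero, ← Category.assoc, ← Subobject.factorThru_arrow _ _ h, Category.assoc,
      cokernel.condition, comp_zero]
  exact (Subobject.factors_iff _ _).2 ⟨Abelian.monoLift S.arrow x h0, Abelian.monoLift_comp _ _ _⟩

theorem mem_comp {S : Subobject X} {T T' : A} (e : T' ⟶ T) {x : T ⟶ X} (h : S.Factors x) : S.Factors (e ≫ x) :=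
  Subobject.factors_of_factors_right e h

theorem mem_sub {S : Subobject X} {T : A} {x y : T ⟶ X} (hx : S.Factors x) (hy : S.Factors y) : S.Factors (x - y) :=
  (Subobject.factors_iff _ _).2 ⟨S.factorThru x hx - S.factorThru y hy, by simp⟩

theorem mem_neg {S : Subobject X} {T : A} {x : T ⟶ X} (hx : S.Factors x) : S.Factors (-x) :=
  (Subobject.factors_iff _ _).2 ⟨-S.factorThru x hx, by simp⟩

/-- To compare subobjects it suffices to look at generalised elements up to refinement. -/
theorem le_of_mem {S U : Subobject X}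
    (h : ∀ ⦃T : A⦄ (x : T ⟶ X), S.Factors x → ∃ (T' : A) (e : T' ⟶ T) (_ : Epi e), U.Factors (e ≫ x)) : S ≤ U := by
  obtain ⟨T', e, he, hU⟩ := h S.arrow S.factors_self
  have hf := mem_of_epi e hU
  exact Subobject.le_of_comm (U.factorThru _ hf) (U.factorThru_arrow _ hf)

theorem mem_mk {Z : A} (f : Z ⟶ X) [Mono f] {T : A} (x : T ⟶ X) :
    (Subobject.mk f).Factors x ↔ ∃ y : T ⟶ Z, y ≫ f = x :=
  Subobject.mk_factors_iff f x

theorem mem_image {f : Y ⟶ X} {T : A} {x : T ⟶ X} (h : (imageSubobject f).Factors x) :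
    ∃ (T' : A) (e : T' ⟶ T) (_ : Epi e) (y : T' ⟶ Y), e ≫ x = y ≫ f := by
  obtain ⟨T', e, he, y, hy⟩ := surjective_up_to_refinements_of_epi (factorThruImageSubobject f)
    ((imageSubobject f).factorThru x h)
  refine ⟨T', e, he, y, ?_⟩
  have := hy =≫ (imageSubobject f).arrow
  simpa using this

theorem mem_image_of (f : Y ⟶ X) {T : A} (y : T ⟶ Y) : (imageSubobject f).Factors (y ≫ f) :=
  imageSubobject_factors_comp_self f y

theorem mem_sup_of {S U : Subobject X} {T : A} {a b : T ⟶ X} (ha : S.Factors a) (hb : U.Factors b) :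
    (S ⊔ U).Factors (a + b) :=
  Subobject.factors_add _ _ (Subobject.sup_factors_of_factors_left ha) (Subobject.sup_factors_of_factors_right hb)

theorem mem_sup {S U : Subobject X} {T : A} {x : T ⟶ X} (h : (S ⊔ U).Factors x) :
    ∃ (T' : A) (e : T' ⟶ T) (_ : Epi e) (a b : T' ⟶ X), S.Factors a ∧ U.Factors b ∧ e ≫ x = a + b := by
  let f : (S : A) ⊞ (U : A) ⟶ X := biprod.desc S.arrow U.arrow
  have hS : S ≤ imageSubobject f := le_of_mem fun T x hx => ⟨T, 𝟙 _, inferInstance, by
    have h' := mem_image_of f (S.factorThru x hx ≫ biprod.inl)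
    simpa [f] using h'⟩
  have hU : U ≤ imageSubobject f := le_of_mem fun T x hx => ⟨T, 𝟙 _, inferInstance, by
    have h' := mem_image_of f (U.factorThru x hx ≫ biprod.inr)
    simpa [f] using h'⟩
  obtain ⟨T', e, he, y, hy⟩ := mem_image (Subobject.factors_of_le x (sup_le hS hU) h)
  refine ⟨T', e, he, y ≫ biprod.fst ≫ S.arrow, y ≫ biprod.snd ≫ U.arrow, ?_, ?_, ?_⟩
  · rw [← Category.assoc]; exact Subobject.factors_comp_arrow _
  · rw [← Category.assoc]; exact Subobject.factors_comp_arrow _
  · rw [hy, ← Preadditive.comp_add, ← biprod.desc_eq]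

theorem mem_pullback {f : X ⟶ Y} {S : Subobject Y} {T : A} {x : T ⟶ X} :
    ((Subobject.pullback f).obj S).Factors x ↔ S.Factors (x ≫ f) := by
  refine ⟨fun h => ?_, fun h => pullback_factors f S x h⟩
  rw [Subobject.pullback_obj, mem_mk] at h
  obtain ⟨y, rfl⟩ := h
  rw [Category.assoc, ← pullback.condition, ← Category.assoc]
  exact Subobject.factors_comp_arrow _

theorem mem_kernel {f : X ⟶ Y} {T : A} {x : T ⟶ X} : (kernelSubobject f).Factors x ↔ x ≫ f = 0 :=
  kernelSubobject_factors_iff f x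

theorem imageSubobject_eq_top (f : Y ⟶ X) [Epi f] : imageSubobject f = ⊤ := by
  refine le_antisymm le_top (le_of_mem fun T x _ => ?_)
  obtain ⟨T', e, he, y, hy⟩ := surjective_up_to_refinements_of_epi f x
  exact ⟨T', e, he, by rw [hy]; exact mem_image_of f y⟩

theorem imageSubobject_eq_bot {f : Y ⟶ X} (hf : f = 0) : imageSubobject f = ⊥ := by
  subst hf
  exact imageSubobject_zero

theorem isZero_subquot {Z B : Subobject X} (h : B ≤ Z) (h' : Z ≤ B) : IsZero (SpSeq.subquot Z B h) := by
  obtain rfl : B = Z := le_antisymm h h'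
  have : IsIso (B.ofLE B h) := ⟨B.ofLE B h, by simp, by simp⟩
  exact isZero_cokernel_of_epi _

theorem finite_props (K : SpSeq.FilObj A) (h : K.IsFinite) : K.IsSeparated ∧ K.IsExhaustive ∧ K.IsComplete := by
  obtain ⟨⟨a, ha⟩, b, hb⟩ := h
  refine ⟨⟨fun s _ => bot_le, fun s hs => hb ▸ hs ⟨b, rfl⟩⟩, ⟨fun s _ => le_top, fun s hs => ha ▸ hs ⟨a, rfl⟩⟩,
    fun T f hf => ?_⟩
  have hiso : ∀ p, b ≤ p → IsIso (cokernel.π (K.fil p).arrow) := fun p hp => by
    have h0 : K.fil p = ⊥ := le_bot_iff.1 (hb ▸ K.anti hp)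
    have : (K.fil p).arrow = 0 := by rw [← Subobject.bot_factors_iff_zero, ← h0]; exact Subobject.factors_self _
    exact cokernel.π_of_zero this
  have := hiso b le_rfl
  refine ⟨f b ≫ inv (cokernel.π (K.fil b).arrow), fun p => ?_⟩
  rcases le_or_gt p b with hp | hp
  · rw [← hf p b hp, Category.assoc]
    congr 1
    simp [SpSeq.FilObj.quotMap]
  · have := hiso p hp.le
    have hq : K.quotMap hp.le = inv (cokernel.π (K.fil p).arrow) ≫ cokernel.π (K.fil b).arrow := by
      simp [SpSeq.FilObj.quotMap]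
    rw [← hf b p hp.le, hq]
    simp

end Groth.L10.SpSeqElem
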