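import Groth.Agent.L10.SpSeq.Converge
import Mathlib.Algebra.Homology.ExactSequence
import Mathlib.CategoryTheory.ObjectProperty.ContainsZero

/-! The differentials of the pages of a filtered complex and the limit term. -/

universe v u

open CategoryTheory CategoryTheory.Limits HomologicalComplex

set_option backward.defeqAttrib.useBackward true
set_option backward.isDefEq.respectTransparency false
namespace Groth.L10.SpSeqPage

open Groth.L10.SpSeqElem Groth.L10.SpSeqConv SpSeq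

variable {A : Type u} [Category.{v} A] [Abelian A]

section Qcls

variable {X : A} {Z B : Subobject X} (h : B ≤ Z)

noncomputable def qcls {T : A} (x : T ⟶ X) (hx : Z.Factors x) : T ⟶ subquot Z B h :=
  Z.factorThru x hx ≫ cokernel.π _

theorem qcls_comp {T T' : A} (e : T' ⟶ T) (x : T ⟶ X) (hx : Z.Factors x) :
    e ≫ qcls h x hx = qcls h (e ≫ x) (mem_comp e hx) := by
  simp only [qcls, ← Category.assoc]
  congr 1
  rw [← cancel_mono Z.arrow]; simp

theorem qcls_congr {T : A} {x y : T ⟶ X} (hxy : x = y) (hx : Z.Factors x) :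
    qcls h x hx = qcls h y (hxy ▸ hx) := by subst hxy; rfl

theorem qcls_add {T : A} {x y : T ⟶ X} (hx : Z.Factors x) (hy : Z.Factors y) :
    qcls h (x + y) (Subobject.factors_add _ _ hx hy) = qcls h x hx + qcls h y hy := by
  simp only [qcls, ← Preadditive.add_comp]
  congr 1
  rw [← cancel_mono Z.arrow]; simp [Preadditive.add_comp]

theorem qcls_eq_zero {T : A} {x : T ⟶ X} (hx : Z.Factors x) : qcls h x hx = 0 ↔ B.Factors x := by
  constructor
  · intro h0
    refine (Subobject.factors_iff _ _).2 ⟨Abelian.monoLift (B.ofLE Z h) _ h0, ?_⟩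
    have := Abelian.monoLift_comp (B.ofLE Z h) _ h0 =≫ Z.arrow
    rw [Category.assoc, Subobject.ofLE_arrow, Subobject.factorThru_arrow] at this
    exact this
  · intro hB
    have : Z.factorThru x hx = B.factorThru x hB ≫ B.ofLE Z h := by
      rw [← cancel_mono Z.arrow]; simp
    simp [qcls, this]

theorem qcls_surj {T : A} (q : T ⟶ subquot Z B h) :
    ∃ (T' : A) (e : T' ⟶ T) (_ : Epi e) (x : T' ⟶ X) (hx : Z.Factors x), e ≫ q = qcls h x hx := by
  obtain ⟨T', e, he, y, hy⟩ := surjective_up_to_refinements_of_epi (cokernel.π (B.ofLE Z h)) q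
  refine ⟨T', e, he, y ≫ Z.arrow, Subobject.factors_comp_arrow y, hy.trans ?_⟩
  simp only [qcls]
  congr 1
  rw [← cancel_mono Z.arrow]; simp

end Qcls

variable (K : FilCx A)

theorem filX_congr {p q : ℤ} (h : p = q) {n : ℤ} {T : A} {x : T ⟶ K.obj.X n} (hx : (K.filX p n).Factors x) :
    (K.filX q n).Factors x := h ▸ hx

variable {r : ℕ} {p n p' n' : ℤ}

theorem mem_Z (hp : p + r = p') (hn : n + 1 = n') {T : A} {x : T ⟶ K.obj.X n} (hx : (K.ZSub r p n).Factors x) :
    ∃ (T' : A) (e : T' ⟶ T) (_ : Epi e) (u w : T' ⟶ K.obj.X n), (K.filX p n).Factors u ∧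
      (K.filX p' n').Factors (u ≫ K.obj.d n n') ∧ (K.filX (p + 1) n).Factors w ∧ e ≫ x = u + w := by
  subst hp hn; exact mem_ZSub K hx

theorem mem_Z_of (hp : p + r = p') (hn : n + 1 = n') {T : A} {u : T ⟶ K.obj.X n} (hu : (K.filX p n).Factors u)
    (hdu : (K.filX p' n').Factors (u ≫ K.obj.d n n')) : (K.ZSub r p n).Factors u := by
  subst hp hn
  simpa using mem_ZSub_of K hu hdu (Subobject.factors_zero (P := K.filX (p + 1) n))

theorem mem_Z_fil (r : ℕ) {T : A} {w : T ⟶ K.obj.X n} (hw : (K.filX (p + 1) n).Factors w) :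
    (K.ZSub r p n).Factors w := Subobject.sup_factors_of_factors_right hw

theorem mem_B (hn : n' + 1 = n) {T : A} {x : T ⟶ K.obj.X n} (hx : (K.BSub r p n).Factors x) :
    ∃ (T' : A) (e : T' ⟶ T) (_ : Epi e) (t : T' ⟶ K.obj.X n') (w : T' ⟶ K.obj.X n),
      (K.filX (p - r + 1) n').Factors t ∧ (K.filX p n).Factors (t ≫ K.obj.d n' n) ∧
        (K.filX (p + 1) n).Factors w ∧ e ≫ x = t ≫ K.obj.d n' n + w := by
  obtain rfl : n' = n - 1 := by omega
  obtain ⟨T₁, e₁, _, u, w, hu, hw, h⟩ := mem_sup hx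
  obtain ⟨hu1, hu2⟩ := (Subobject.inf_factors _).1 hu
  obtain ⟨T₂, e₂, _, y, hy⟩ := mem_image hu2
  refine ⟨T₂, e₂ ≫ e₁, epi_comp _ _, y ≫ (K.filX (p - r + 1) (n - 1)).arrow, e₂ ≫ w,
    Subobject.factors_comp_arrow y, ?_, mem_comp _ hw, ?_⟩
  · rw [Category.assoc, ← hy]; exact mem_comp _ hu1
  · rw [Category.assoc, h, Preadditive.comp_add, hy, Category.assoc]

theorem mem_B_of (hn : n' + 1 = n) {q : ℤ} (hq : p - r + 1 ≤ q) {T : A} {t : T ⟶ K.obj.X n'} {w : T ⟶ K.obj.X n}
    (ht : (K.filX q n').Factors t) (hdt : (K.filX p n).Factors (t ≫ K.obj.d n' n))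
    (hw : (K.filX (p + 1) n).Factors w) : (K.BSub r p n).Factors (t ≫ K.obj.d n' n + w) := by
  obtain rfl : n' = n - 1 := by omega
  exact mem_BSub_of K (mem_le K hq ht) hdt hw

theorem mem_B_fil (r : ℕ) {T : A} {w : T ⟶ K.obj.X n} (hw : (K.filX (p + 1) n).Factors w) :
    (K.BSub r p n).Factors w := Subobject.sup_factors_of_factors_right hw

theorem BSub_mono_succ (r : ℕ) (p n : ℤ) : K.BSub r p n ≤ K.BSub (r + 1) p n :=
  le_of_mem fun T x hx => by
    obtain ⟨T', e, he, t, w, ht, hdt, hw, h⟩ := mem_B K (n' := n - 1) (by omega) hx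
    exact ⟨T', e, he, h ▸ mem_B_of K (by omega) (by push_cast; omega) ht hdt hw⟩

theorem ZSub_anti_succ (r : ℕ) (p n : ℤ) : K.ZSub (r + 1) p n ≤ K.ZSub r p n :=
  le_of_mem fun T x hx => by
    obtain ⟨T', e, he, u, w, hu, hdu, hw, h⟩ := mem_Z K (p' := p + (r + 1)) (by push_cast; rfl) rfl hx
    exact ⟨T', e, he, h ▸ Subobject.factors_add _ _ (mem_Z_of K rfl rfl hu (mem_le K (by omega) hdu)) (mem_Z_fil K r hw)⟩

/-! ### The differential of page `r` -/

variable (r p n p' n')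

noncomputable def U : Subobject (K.obj.X n) :=
  K.filX p n ⊓ (Subobject.pullback (K.obj.d n n')).obj (K.filX p' n')

variable {r p n p' n'}

theorem mem_U {T : A} {u : T ⟶ K.obj.X n} :
    (U K p n p' n').Factors u ↔ (K.filX p n).Factors u ∧ (K.filX p' n').Factors (u ≫ K.obj.d n n') := by
  rw [U, Subobject.inf_factors, mem_pullback]

theorem U_Z (hp : p + r = p') (hn : n + 1 = n') {T : A} {u : T ⟶ K.obj.X n} (hu : (U K p n p' n').Factors u) :
    (K.ZSub r p n).Factors u :=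
  mem_Z_of K hp hn ((mem_U K).1 hu).1 ((mem_U K).1 hu).2

theorem U_dZ {T : A} {u : T ⟶ K.obj.X n} (hu : (U K p n p' n').Factors u) :
    (K.ZSub r p' n').Factors (u ≫ K.obj.d n n') :=
  mem_Z_of K rfl rfl ((mem_U K).1 hu).2 (by rw [Category.assoc, K.obj.d_comp_d, comp_zero]; exact Subobject.factors_zero)

noncomputable def πU (hp : p + r = p') (hn : n + 1 = n') : (U K p n p' n' : A) ⟶ K.E r p n :=
  qcls _ (U K p n p' n').arrow (U_Z K hp hn (Subobject.factors_self _))

theorem comp_πU (hp : p + r = p') (hn : n + 1 = n') {T : A} (u : T ⟶ K.obj.X n) (hu : (U K p n p' n').Factors u) :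
    (U K p n p' n').factorThru u hu ≫ πU K hp hn = qcls _ u (U_Z K hp hn hu) := by
  rw [πU, qcls_comp]
  exact qcls_congr _ (by simp) _

instance epi_πU (hp : p + r = p') (hn : n + 1 = n') : Epi (πU K hp hn) := by
  rw [epi_iff_surjective_up_to_refinements]
  intro T q
  obtain ⟨T₁, e₁, _, x, hx, hq⟩ := qcls_surj _ q
  obtain ⟨T₂, e₂, _, u, w, hu, hdu, hw, h⟩ := mem_Z K hp hn hx
  refine ⟨T₂, e₂ ≫ e₁, epi_comp _ _, (U K p n p' n').factorThru u ((mem_U K).2 ⟨hu, hdu⟩), ?_⟩
  rw [comp_πU, Category.assoc, hq, qcls_comp, qcls_congr _ h, qcls_add _ (mem_Z_of K hp hn hu hdu) (mem_Z_fil K r hw),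
    (qcls_eq_zero _ _).2 (mem_B_fil K r hw), add_zero]

theorem δ_wd (hp : p + r = p') (hn : n + 1 = n') {T : A} {u : T ⟶ K.obj.X n} (hu : (U K p n p' n').Factors u)
    (hB : (K.BSub r p n).Factors u) : (K.BSub r p' n').Factors (u ≫ K.obj.d n n') := by
  obtain ⟨hu1, hu2⟩ := (mem_U K).1 hu
  obtain ⟨T', e, he, t, w, ht, hdt, hw, h⟩ := mem_B K (n' := n - 1) (by omega) hB
  refine mem_of_epi e ?_
  have hdw : e ≫ u ≫ K.obj.d n n' = w ≫ K.obj.d n n' + 0 := by
    rw [reassoc_of% h, Preadditive.add_comp, Category.assoc, K.obj.d_comp_d, comp_zero, zero_add, add_zero]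
  rw [hdw]
  refine mem_B_of K hn (by omega) hw ?_ Subobject.factors_zero
  have := mem_comp e hu2
  rw [hdw, add_zero] at this
  exact this

noncomputable def δ (hp : p + r = p') (hn : n + 1 = n') : K.E r p n ⟶ K.E r p' n' :=
  Abelian.epiDesc (πU K hp hn) (qcls _ ((U K p n p' n').arrow ≫ K.obj.d n n') (U_dZ K (Subobject.factors_self _))) (by
    rw [qcls_comp, qcls_eq_zero, ← Category.assoc]
    refine δ_wd K hp hn (Subobject.factors_comp_arrow _) ((qcls_eq_zero (K.BSub_le_ZSub r p n) (U_Z K hp hn (Subobject.factors_comp_arrow _))).1 ?_)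
    have h0 := kernel.condition (πU K hp hn)
    rw [πU, qcls_comp] at h0
    exact h0)

theorem δ_spec (hp : p + r = p') (hn : n + 1 = n') {T : A} (u : T ⟶ K.obj.X n) (hu : (U K p n p' n').Factors u) :
    qcls _ u (U_Z K hp hn hu) ≫ δ K hp hn = qcls _ (u ≫ K.obj.d n n') (U_dZ K hu) := by
  rw [← comp_πU K hp hn u hu, Category.assoc, δ, Abelian.comp_epiDesc, qcls_comp]
  exact qcls_congr _ (by simp) _

theorem δ_spec_Z (hp : p + r = p') (hn : n + 1 = n') {T : A} {x : T ⟶ K.obj.X n} (hx : (K.ZSub r p n).Factors x)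
    {u w : T ⟶ K.obj.X n} (hu : (U K p n p' n').Factors u) (hw : (K.filX (p + 1) n).Factors w) (h : x = u + w) :
    qcls _ x hx ≫ δ K hp hn = qcls _ (u ≫ K.obj.d n n') (U_dZ K hu) := by
  rw [qcls_congr _ h, qcls_add _ (U_Z K hp hn hu) (mem_Z_fil K r hw), Preadditive.add_comp,
    (qcls_eq_zero _ (mem_Z_fil K r hw)).2 (mem_B_fil K r hw), zero_comp, add_zero, δ_spec K hp hn u hu]

/-! ### Passage to page `r + 1` -/

variable (r p n)

noncomputable def Q1 : A :=
  cokernel (δ K (r := r) (p := p - r) (n := n - 1) (p' := p) (n' := n) (by omega) (by omega))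

noncomputable def Q1π : K.E r p n ⟶ Q1 K r p n := cokernel.π _

variable {r p n}

theorem B_succ_Q1 {T : A} {x : T ⟶ K.obj.X n} (hx : (K.ZSub r p n).Factors x) (hB : (K.BSub (r + 1) p n).Factors x) :
    qcls _ x hx ≫ Q1π K r p n = 0 := by
  obtain ⟨T', e, he, t, w, ht, hdt, hw, h⟩ := mem_B K (n' := n - 1) (by omega) hB
  rw [← cancel_epi e, comp_zero, ← Category.assoc, qcls_comp]
  have hu : (U K (p - r) (n - 1) p n).Factors t := (mem_U K).2 ⟨mem_le K (by push_cast; omega) ht, hdt⟩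
  have h' := δ_spec K (r := r) (p := p - r) (n := n - 1) (p' := p) (n' := n) (by omega) (by omega) t hu
  rw [qcls_congr _ h, qcls_add _ (U_dZ K hu) (mem_Z_fil K r hw), (qcls_eq_zero _ (mem_Z_fil K r hw)).2 (mem_B_fil K r hw),
    add_zero, ← h', Q1π, Category.assoc, cokernel.condition, comp_zero]

noncomputable def ψ : K.E (r + 1) p n ⟶ Q1 K r p n :=
  cokernel.desc _ ((K.ZSub (r + 1) p n).ofLE _ (ZSub_anti_succ K r p n) ≫
    cokernel.π ((K.BSub r p n).ofLE (K.ZSub r p n) (K.BSub_le_ZSub r p n)) ≫ Q1π K r p n) (by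
    let x := (K.BSub (r + 1) p n).arrow
    have hx : (K.ZSub r p n).Factors x := Subobject.factors_of_le _
      ((K.BSub_le_ZSub (r + 1) p n).trans (ZSub_anti_succ K r p n)) (Subobject.factors_self _)
    rw [← B_succ_Q1 K hx (Subobject.factors_self _), qcls]
    have he : (K.BSub (r + 1) p n).ofLE _ (K.BSub_le_ZSub (r + 1) p n) ≫ (K.ZSub (r + 1) p n).ofLE _ (ZSub_anti_succ K r p n) =
        (K.ZSub r p n).factorThru x hx := by
      rw [← cancel_mono (K.ZSub r p n).arrow]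
      simp [x]
    rw [← he]
    simp [x])

theorem qcls_ψ {T : A} {x : T ⟶ K.obj.X n} (hx : (K.ZSub (r + 1) p n).Factors x) :
    qcls _ x hx ≫ ψ K = qcls _ x (Subobject.factors_of_le x (ZSub_anti_succ K r p n) hx) ≫ Q1π K r p n := by
  simp only [qcls, ψ, Category.assoc]
  erw [cokernel.π_desc]
  have he : (K.ZSub (r + 1) p n).factorThru x hx ≫ (K.ZSub (r + 1) p n).ofLE _ (ZSub_anti_succ K r p n) =
      (K.ZSub r p n).factorThru x (Subobject.factors_of_le x (ZSub_anti_succ K r p n) hx) := by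
    rw [← cancel_mono (K.ZSub r p n).arrow]
    simp
  rw [← he]
  simp

instance mono_ψ : Mono (ψ K (r := r) (p := p) (n := n)) :=
  Preadditive.mono_of_cancel_zero _ fun {T} q hq => by
    obtain ⟨T₁, e₁, _, x, hx, hxe⟩ := qcls_surj _ q
    rw [← cancel_epi e₁, comp_zero, hxe, qcls_eq_zero]
    have h0 := qcls_ψ K hx
    rw [← hxe, Category.assoc, hq, comp_zero] at h0
    obtain ⟨T₂, e₂, _, y, hy⟩ := (ShortComplex.exact_iff_exact_up_to_refinements _).1
      (ShortComplex.exact_cokernel _) _ h0.symm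
    obtain ⟨T₃, e₃, _, z, hz⟩ := surjective_up_to_refinements_of_epi
      (πU K (r := r) (p := p - r) (n := n - 1) (p' := p) (n' := n) (by omega) (by omega)) y
    change e₂ ≫ qcls _ x _ = y ≫ δ K _ _ at hy
    let t := z ≫ (U K (p - r) (n - 1) p n).arrow
    have ht : (U K (p - r) (n - 1) p n).Factors t := Subobject.factors_comp_arrow z
    have h1 : e₃ ≫ y = qcls _ t (U_Z K (r := r) (by omega) (by omega) ht) := by rw [hz, πU, qcls_comp]
    have h2 := congrArg (e₃ ≫ ·) hy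
    simp only [← Category.assoc] at h2
    rw [h1, δ_spec K (r := r) (p := p - r) (n := n - 1) (p' := p) (n' := n) (by omega) (by omega) t ht, qcls_comp] at h2
    have hxZ := Subobject.factors_of_le x (ZSub_anti_succ K r p n) hx
    have hd : (K.BSub r p n).Factors ((e₃ ≫ e₂) ≫ x - t ≫ K.obj.d (n - 1) n) := by
      rw [← qcls_eq_zero (K.BSub_le_ZSub r p n) (mem_sub (mem_comp _ hxZ) (U_dZ K ht))]
      have h3 := qcls_add (K.BSub_le_ZSub r p n) (mem_sub (mem_comp (e₃ ≫ e₂) hxZ) (U_dZ (r := r) K ht)) (U_dZ K ht)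
      rw [qcls_congr _ (sub_add_cancel _ _), h2] at h3
      simpa using h3
    refine mem_of_epi (e₃ ≫ e₂) ?_
    have htd : (K.BSub (r + 1) p n).Factors (t ≫ K.obj.d (n - 1) n + 0) :=
      mem_B_of K (by omega) (by push_cast; omega) ((mem_U K).1 ht).1 ((mem_U K).1 ht).2 Subobject.factors_zero
    have := Subobject.factors_add _ _ (Subobject.factors_of_le _ (BSub_mono_succ K r p n) hd) htd
    simpa using this

variable (r p n)

noncomputable def δbar : Q1 K r p n ⟶ K.E r (p + r) (n + 1) :=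
  cokernel.desc _ (δ K rfl rfl) (by
    rw [← cancel_epi (πU K (r := r) (p := p - r) (n := n - 1) (p' := p) (n' := n) (by omega) (by omega)), comp_zero,
      δ, Abelian.comp_epiDesc_assoc]
    let t := (U K (p - r) (n - 1) p n).arrow
    have ht : (U K (p - r) (n - 1) p n).Factors t := Subobject.factors_self _
    have hu : (U K p n (p + r) (n + 1)).Factors (t ≫ K.obj.d (n - 1) n) := (mem_U K).2
      ⟨((mem_U K).1 ht).2, by rw [Category.assoc, K.obj.d_comp_d, comp_zero]; exact Subobject.factors_zero⟩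
    have h' := δ_spec K (r := r) rfl rfl (t ≫ K.obj.d (n - 1) n) hu
    refine h'.trans ((qcls_eq_zero _ _).2 ?_)
    rw [Category.assoc, K.obj.d_comp_d, comp_zero]
    exact Subobject.factors_zero)

theorem Q1π_δbar : Q1π K r p n ≫ δbar K r p n = δ K rfl rfl := cokernel.π_desc _ _ _

theorem ψ_δbar : ψ K ≫ δbar K r p n = 0 := by
  have : Epi (cokernel.π ((K.BSub (r + 1) p n).ofLE _ (K.BSub_le_ZSub (r + 1) p n))) := inferInstance
  rw [← cancel_epi (cokernel.π ((K.BSub (r + 1) p n).ofLE _ (K.BSub_le_ZSub (r + 1) p n))), comp_zero]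
  have hq : cokernel.π ((K.BSub (r + 1) p n).ofLE _ (K.BSub_le_ZSub (r + 1) p n)) =
      qcls (K.BSub_le_ZSub (r + 1) p n) (K.ZSub (r + 1) p n).arrow (Subobject.factors_self _) := by
    simp [qcls]
  rw [hq]
  generalize (K.ZSub (r + 1) p n).arrow = x, Subobject.factors_self (P := K.ZSub (r + 1) p n) = hx
  rw [← Category.assoc]
  erw [qcls_ψ K hx]
  rw [Category.assoc, Q1π_δbar]
  obtain ⟨T', e, _, u, w, hu, hdu, hw, h⟩ := mem_Z K (p' := p + r + 1) (by push_cast; omega) rfl hx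
  rw [← cancel_epi e, comp_zero, ← Category.assoc, qcls_comp,
    δ_spec_Z K rfl rfl _ ((mem_U K).2 ⟨hu, mem_le K (by omega) hdu⟩) hw h, qcls_eq_zero]
  exact mem_B_fil K r hdu

theorem page_exact : (ShortComplex.mk (ψ K) (δbar K r p n) (ψ_δbar K r p n)).Exact := by
  rw [ShortComplex.exact_iff_exact_up_to_refinements]
  intro T q hq
  dsimp at q hq
  have : Epi (πU K (r := r) (p := p) (n := n) rfl rfl ≫ Q1π K r p n) := by rw [Q1π]; exact epi_comp' inferInstance inferInstance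
  obtain ⟨T₁, e₁, _, y, hy⟩ := surjective_up_to_refinements_of_epi (πU K (r := r) (p := p) (n := n) rfl rfl ≫ Q1π K r p n) q
  let u := y ≫ (U K p n (p + r) (n + 1)).arrow
  have hu : (U K p n (p + r) (n + 1)).Factors u := Subobject.factors_comp_arrow y
  have hyu : y ≫ πU K (r := r) (p := p) (n := n) rfl rfl = qcls _ u (U_Z K rfl rfl hu) := by rw [πU, qcls_comp]
  have h0 : qcls (K.BSub_le_ZSub r _ _) (u ≫ K.obj.d n (n + 1)) (U_dZ K hu) = 0 := by
    rw [← δ_spec K rfl rfl u hu, ← hyu, ← Q1π_δbar, Category.assoc, ← Category.assoc (πU K _ _),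
      ← Category.assoc, ← hy, Category.assoc, hq, comp_zero]
  obtain ⟨T₂, e₂, _, t, w, ht, hdt, hw, h⟩ := mem_B K (n' := n) rfl ((qcls_eq_zero _ _).1 h0)
  obtain ⟨hu1, -⟩ := (mem_U K).1 hu
  have ht' : (K.filX (p + 1) n).Factors t := filX_congr K (by omega) ht
  have hx : (K.ZSub (r + 1) p n).Factors (e₂ ≫ u) := by
    have hs : (K.ZSub (r + 1) p n).Factors ((e₂ ≫ u - t) + t) := by
      refine Subobject.factors_add _ _ (mem_Z_of K (p' := p + r + 1) (by push_cast; omega) rfl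
        (mem_sub (mem_comp e₂ hu1) (mem_le K (by omega) ht')) ?_) (mem_Z_fil K _ ht')
      have : (e₂ ≫ u - t) ≫ K.obj.d n (n + 1) = w := by
        rw [Preadditive.sub_comp, Category.assoc, h]; abel
      rwa [this]
    simpa using hs
  refine ⟨T₂, e₂ ≫ e₁, epi_comp _ _, qcls _ (e₂ ≫ u) hx, ?_⟩
  dsimp
  rw [qcls_ψ, Category.assoc, hy, ← qcls_comp _ e₂ u (U_Z K rfl rfl hu), ← hyu]
  simp

end Groth.L10.SpSeqPage
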