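import Groth.Agent.L10.SpSeq.Page

/-! Objects of a weak Serre class in the spectral sequence of a filtered complex. -/

universe v u

open CategoryTheory CategoryTheory.Limits HomologicalComplex

set_option backward.defeqAttrib.useBackward true
set_option backward.isDefEq.respectTransparency false
namespace Groth.L10.SpSeqSerre

open Groth.L10.SpSeqElem Groth.L10.SpSeqConv Groth.L10.SpSeqPage SpSeq

variable {A : Type u} [Category.{v} A] [Abelian A]

section Closure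

variable (P : ObjectProperty A) [P.IsClosedUnderIsomorphisms] (h0 : ∃ Z : A, IsZero Z ∧ P Z)
  (hP : ∀ S : ComposableArrows A 4, S.Exact → P (S.obj 0) → P (S.obj 1) → P (S.obj 3) → P (S.obj 4) → P (S.obj 2))

include h0 in
theorem p_zero {Z : A} (hZ : IsZero Z) : P Z := by
  obtain ⟨Z₀, h, hp⟩ := h0
  exact P.prop_of_iso (h.iso hZ) hp

open ComposableArrows in
theorem mk₄_exact {X₀ X₁ X₂ X₃ X₄ : A} (a : X₀ ⟶ X₁) (b : X₁ ⟶ X₂) (c : X₂ ⟶ X₃) (d : X₃ ⟶ X₄)
    (w₁ : a ≫ b = 0) (w₂ : b ≫ c = 0) (w₃ : c ≫ d = 0) (e₁ : (ShortComplex.mk a b w₁).Exact)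
    (e₂ : (ShortComplex.mk b c w₂).Exact) (e₃ : (ShortComplex.mk c d w₃).Exact) : (mk₄ a b c d).Exact :=
  exact_of_δ₀ e₁.exact_toComposableArrows (exact_of_δ₀ e₂.exact_toComposableArrows e₃.exact_toComposableArrows)

include hP in
theorem p_five {X₀ X₁ X₂ X₃ X₄ : A} (a : X₀ ⟶ X₁) (b : X₁ ⟶ X₂) (c : X₂ ⟶ X₃) (d : X₃ ⟶ X₄)
    (w₁ : a ≫ b = 0) (w₂ : b ≫ c = 0) (w₃ : c ≫ d = 0) (e₁ : (ShortComplex.mk a b w₁).Exact)
    (e₂ : (ShortComplex.mk b c w₂).Exact) (e₃ : (ShortComplex.mk c d w₃).Exact)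
    (p₀ : P X₀) (p₁ : P X₁) (p₃ : P X₃) (p₄ : P X₄) : P X₂ :=
  hP (.mk₄ a b c d) (mk₄_exact a b c d w₁ w₂ w₃ e₁ e₂ e₃) p₀ p₁ p₃ p₄

include h0 hP in
theorem p_left (S : ShortComplex A) (hS : S.Exact) [Mono S.f] (h₂ : P S.X₂) (h₃ : P S.X₃) : P S.X₁ := by
  obtain ⟨Z, hZ, pZ⟩ := h0
  refine p_five P hP (0 : Z ⟶ Z) (0 : Z ⟶ S.X₁) S.f S.g (by simp) (by simp) S.zero ?_ ?_ hS pZ pZ h₂ h₃
  · exact ShortComplex.exact_of_isZero_X₂ _ hZ
  · exact (ShortComplex.exact_iff_mono _ rfl).2 ‹_›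

include h0 hP in
theorem p_right (S : ShortComplex A) (hS : S.Exact) [Epi S.g] (h₁ : P S.X₁) (h₂ : P S.X₂) : P S.X₃ := by
  obtain ⟨Z, hZ, pZ⟩ := h0
  refine p_five P hP S.f S.g (0 : S.X₃ ⟶ Z) (0 : Z ⟶ Z) S.zero (by simp) (by simp) hS ?_ ?_ h₁ h₂ pZ pZ
  · exact (ShortComplex.exact_iff_epi _ rfl).2 ‹_›
  · exact ShortComplex.exact_of_isZero_X₂ _ hZ

include h0 hP in
theorem p_mid (S : ShortComplex A) (hS : S.ShortExact) (h₁ : P S.X₁) (h₃ : P S.X₃) : P S.X₂ := by
  obtain ⟨Z, hZ, pZ⟩ := h0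
  have := hS.mono_f
  have := hS.epi_g
  refine p_five P hP (0 : Z ⟶ S.X₁) S.f S.g (0 : S.X₃ ⟶ Z) (by simp) S.zero (by simp) ?_ hS.exact ?_ pZ h₁ h₃ pZ
  · exact (ShortComplex.exact_iff_mono _ rfl).2 ‹_›
  · exact (ShortComplex.exact_iff_epi _ rfl).2 ‹_›

variable (K : FilCx A)

include h0 hP in
theorem p_page_succ (r : ℕ) (hr : ∀ p n : ℤ, P (K.E r p n)) (p n : ℤ) : P (K.E (r + 1) p n) := by
  have hQ : P (Q1 K r p n) := by
    have : Epi (ShortComplex.mk _ _ (cokernel.condition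
      (δ K (r := r) (p := p - r) (n := n - 1) (p' := p) (n' := n) (by omega) (by omega)))).g :=
      inferInstanceAs (Epi (cokernel.π _))
    exact p_right P h0 hP _ (ShortComplex.exact_cokernel _) (hr _ _) (hr p n)
  have : Mono (ShortComplex.mk (ψ K) (δbar K r p n) (ψ_δbar K r p n)).f := mono_ψ K
  exact p_left P h0 hP _ (page_exact K r p n) hQ (hr _ _)

include h0 hP in
theorem p_page_le {r s : ℕ} (hrs : r ≤ s) (hr : ∀ p n : ℤ, P (K.E r p n)) : ∀ p n : ℤ, P (K.E s p n) := by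
  induction s, hrs using Nat.le_induction with
  | base => exact hr
  | succ s _ ih => exact p_page_succ P h0 hP K s ih

end Closure

/-! ### The limit term -/

variable (K : FilCx A)

theorem stationary (hK : ∀ n : ℤ, (K.XFil n).IsFinite) (p n : ℤ) :
    ∃ r₀ : ℕ, ∀ r, r₀ ≤ r → K.ZSub r p n = K.ZTop p n ∧ K.BSub r p n = K.BBot p n := by
  obtain ⟨b, hb⟩ := (hK (n + 1)).2
  obtain ⟨a, ha⟩ := (hK (n - 1)).1
  refine ⟨max (b - p).toNat (p + 1 - a).toNat, fun r hr => ⟨le_antisymm (le_of_mem fun T x hx => ?_) (ZTop_le_ZSub K r p n),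
    le_antisymm (BSub_le_BBot K r p n) (le_of_mem fun T x hx => ?_)⟩⟩
  · obtain ⟨T', e, he, u, w, hu, hdu, hw, h⟩ := mem_ZSub K hx
    have h' : ((K.XFil (n + 1)).fil b).Factors (u ≫ K.obj.d n (n + 1)) := mem_le K (by omega) hdu
    rw [hb] at h'
    exact ⟨T', e, he, h ▸ mem_ZTop_of K hu ((Subobject.bot_factors_iff_zero _).1 h') hw⟩
  · obtain ⟨T', e, he, t, w, ht, hw, h⟩ := mem_BBot K hx
    have h' : ((K.XFil (n - 1)).fil a).Factors t := by rw [ha]; exact Subobject.top_factors _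
    exact ⟨T', e, he, h ▸ mem_BSub_of K (mem_le K (by omega) h') ht hw⟩

theorem BBot_le_ZTop (p n : ℤ) : K.BBot p n ≤ K.ZTop p n :=
  sup_le_sup_right (inf_le_inf_left _ (le_kernelSubobject _ _ (imageSubobject_arrow_comp_eq_zero (by simp)))) _

noncomputable def C (p n : ℤ) : Subobject (K.obj.X n) := K.filX p n ⊓ kernelSubobject (K.obj.d n (n + 1))

variable {p n : ℤ}

theorem mem_C {T : A} {z : T ⟶ K.obj.X n} :
    (C K p n).Factors z ↔ (K.filX p n).Factors z ∧ z ≫ K.obj.d n (n + 1) = 0 := by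
  rw [C, Subobject.inf_factors, mem_kernel]

noncomputable def hcls {T : A} (z : T ⟶ K.obj.X n) (hz : z ≫ K.obj.d n (n + 1) = 0) : T ⟶ K.obj.homology n :=
  K.obj.liftCycles z (n + 1) (by simp) hz ≫ K.obj.homologyπ n

theorem hcls_comp {T T' : A} (e : T' ⟶ T) (z : T ⟶ K.obj.X n) (hz : z ≫ K.obj.d n (n + 1) = 0) :
    e ≫ hcls K z hz = hcls K (e ≫ z) (by rw [Category.assoc, hz, comp_zero]) := by
  simp only [hcls, ← Category.assoc]
  congr 1
  rw [← cancel_mono (K.obj.iCycles n)]; simp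

theorem hcls_congr {T : A} {z z' : T ⟶ K.obj.X n} (h : z = z') (hz : z ≫ K.obj.d n (n + 1) = 0) :
    hcls K z hz = hcls K z' (h ▸ hz) := by subst h; rfl

theorem hcls_mem {T : A} {z : T ⟶ K.obj.X n} (hz : (C K p n).Factors z) :
    (K.filH p n).Factors (hcls K z ((mem_C K).1 hz).2) := by
  obtain ⟨y, hy⟩ := (mem_filX K).1 ((mem_C K).1 hz).1
  have := mono_fil K p (n + 1)
  have hy' : y ≫ (K.fil p : CochainComplex A ℤ).d n (n + 1) = 0 := by
    rw [← cancel_mono ((K.fil p).arrow.f (n + 1)), Category.assoc, ← Hom.comm, reassoc_of% hy,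
      ((mem_C K).1 hz).2, zero_comp]
  have h := mem_image_of (homologyMap (K.fil p).arrow n)
    ((K.fil p : CochainComplex A ℤ).liftCycles y (n + 1) (by simp) hy' ≫ homologyπ _ n)
  rw [Category.assoc, homologyπ_naturality, ← Category.assoc] at h
  simp only [hcls]
  have he : (K.fil p : CochainComplex A ℤ).liftCycles y (n + 1) (by simp) hy' ≫ cyclesMap (K.fil p).arrow n =
      K.obj.liftCycles z (n + 1) (by simp) ((mem_C K).1 hz).2 := by
    rw [← cancel_mono (K.obj.iCycles n)]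
    simp [hy]
  rw [he] at h
  exact h

theorem filH_surj {T : A} {c : T ⟶ K.obj.homology n} (hc : (K.filH p n).Factors c) :
    ∃ (T' : A) (e : T' ⟶ T) (_ : Epi e) (z : T' ⟶ K.obj.X n) (hz : (C K p n).Factors z),
      e ≫ c = hcls K z ((mem_C K).1 hz).2 := by
  obtain ⟨T₁, e₁, _, γ, hγ⟩ := mem_image hc
  obtain ⟨T₂, e₂, _, y, hy, hye⟩ := (K.fil p : CochainComplex A ℤ).eq_liftCycles_homologyπ_up_to_refinements γ (n + 1) (by simp)
  refine ⟨T₂, e₂ ≫ e₁, epi_comp _ _, y ≫ (K.fil p).arrow.f n, (mem_C K).2 ⟨(mem_filX K).2 ⟨y, rfl⟩, ?_⟩, ?_⟩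
  · rw [Category.assoc, Hom.comm, reassoc_of% hy, zero_comp]
  · rw [Category.assoc, hγ, reassoc_of% hye, homologyπ_naturality, hcls, ← Category.assoc]
    congr 1
    rw [← cancel_mono (K.obj.iCycles n)]
    simp

variable (p n)

noncomputable def toGr : (C K p n : A) ⟶ (K.HFil n).gr p :=
  qcls _ (hcls K (C K p n).arrow ((mem_C K).1 (Subobject.factors_self _)).2) (hcls_mem K (Subobject.factors_self _))

noncomputable def toLim : (C K p n : A) ⟶ subquot (K.ZTop p n) (K.BBot p n) (BBot_le_ZTop K p n) :=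
  qcls _ (C K p n).arrow (Subobject.sup_factors_of_factors_left (Subobject.factors_self _))

instance : Epi (toGr K p n) := by
  rw [epi_iff_surjective_up_to_refinements]
  intro T q
  obtain ⟨T₁, e₁, _, c, hc, hq⟩ := qcls_surj _ q
  obtain ⟨T₂, e₂, _, z, hz, hze⟩ := filH_surj K hc
  refine ⟨T₂, e₂ ≫ e₁, epi_comp _ _, (C K p n).factorThru z hz, ?_⟩
  rw [Category.assoc, hq, toGr, qcls_comp, qcls_comp]
  refine qcls_congr _ (hze.trans ?_) _
  erw [hcls_comp]
  exact hcls_congr K (by simp) _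

instance : Epi (toLim K p n) := by
  rw [epi_iff_surjective_up_to_refinements]
  intro T q
  obtain ⟨T₁, e₁, _, x, hx, hq⟩ := qcls_surj _ q
  obtain ⟨T₂, e₂, _, u, w, hu, hw, h⟩ := mem_sup hx
  refine ⟨T₂, e₂ ≫ e₁, epi_comp _ _, (C K p n).factorThru u hu, ?_⟩
  have hwB : (K.BBot p n).Factors w := Subobject.sup_factors_of_factors_right hw
  have huZ : (K.ZTop p n).Factors u := Subobject.sup_factors_of_factors_left hu
  have hwZ : (K.ZTop p n).Factors w := Subobject.sup_factors_of_factors_right hw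
  rw [Category.assoc, hq, qcls_comp, qcls_congr _ h, qcls_add _ huZ hwZ, (qcls_eq_zero _ hwZ).2 hwB, add_zero,
    toLim, qcls_comp]
  exact qcls_congr _ (by simp) _

theorem comp_toGr_eq_zero_iff {T : A} (y : T ⟶ (C K p n : A)) : y ≫ toGr K p n = 0 ↔ y ≫ toLim K p n = 0 := by
  rw [toGr, toLim, qcls_comp, qcls_comp, qcls_eq_zero, qcls_eq_zero]
  obtain ⟨hz1, hz2⟩ := (mem_C K).1 (Subobject.factors_comp_arrow (P := C K p n) y)
  erw [hcls_comp]
  constructor
  · intro h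
    obtain ⟨T₁, e₁, _, w, hw, hwe⟩ := filH_surj K h
    rw [hcls_comp] at hwe
    obtain ⟨T₂, e₂, _, t, ht⟩ := (K.obj.liftCycles_comp_homologyπ_eq_iff_up_to_refinements (n - 1) n (n + 1)
      (by simp) (by simp) _ w _ ((mem_C K).1 hw).2).1 hwe
    refine mem_of_epi (e₂ ≫ e₁) ?_
    have hw' : (K.filX (p + 1) n).Factors (e₂ ≫ w) := mem_comp e₂ ((mem_C K).1 hw).1
    rw [Category.assoc, ht, add_comm]
    refine mem_sup_of ((Subobject.inf_factors _).2 ⟨?_, mem_image_of _ t⟩) hw'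
    have he : t ≫ K.obj.d (n - 1) n = e₂ ≫ e₁ ≫ y ≫ (C K p n).arrow - e₂ ≫ w := by rw [ht]; abel
    rw [he]
    exact mem_sub (mem_comp _ (mem_comp _ hz1)) (mem_le K (by omega) hw')
  · intro h
    obtain ⟨T', e, _, t, w, hdt, hw, hte⟩ := mem_BBot K h
    refine mem_of_epi e ?_
    rw [hcls_comp]
    have hwd : w ≫ K.obj.d n (n + 1) = 0 := by
      have := hte =≫ K.obj.d n (n + 1)
      simp only [Category.assoc, Preadditive.add_comp, K.obj.d_comp_d, comp_zero, zero_add] at this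
      rw [← this, ← Category.assoc y, hz2, comp_zero]
    have heq : hcls K (e ≫ y ≫ (C K p n).arrow) (by rw [Category.assoc, hz2, comp_zero]) = hcls K w hwd := by
      rw [hcls, hcls, K.obj.liftCycles_comp_homologyπ_eq_iff_up_to_refinements (n - 1) n (n + 1) (by simp) (by simp)]
      exact ⟨T', 𝟙 T', inferInstance, t, by simp [hte, add_comm]⟩
    rw [heq]
    exact hcls_mem K ((mem_C K).2 ⟨hw, hwd⟩)

noncomputable def grIso : (K.HFil n).gr p ≅ subquot (K.ZTop p n) (K.BBot p n) (BBot_le_ZTop K p n) where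
  hom := Abelian.epiDesc (toGr K p n) (toLim K p n) ((comp_toGr_eq_zero_iff K p n _).1 (kernel.condition _))
  inv := Abelian.epiDesc (toLim K p n) (toGr K p n) ((comp_toGr_eq_zero_iff K p n _).2 (kernel.condition _))
  hom_inv_id := by
    rw [← cancel_epi (toGr K p n), Abelian.comp_epiDesc_assoc, Abelian.comp_epiDesc, Category.comp_id]
  inv_hom_id := by
    rw [← cancel_epi (toLim K p n), Abelian.comp_epiDesc_assoc, Abelian.comp_epiDesc, Category.comp_id]

theorem subquot_congr {X : A} {Z Z' B B' : Subobject X} (hZ : Z = Z') (hB : B = B') (h : B ≤ Z) (h' : B' ≤ Z') :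
    subquot Z B h = subquot Z' B' h' := by subst hZ hB; rfl

theorem main_result (hK : ∀ n : ℤ, (K.XFil n).IsFinite) (P : ObjectProperty A) [P.IsClosedUnderIsomorphisms]
    (h0 : ∃ Z : A, IsZero Z ∧ P Z)
    (hP : ∀ S : ComposableArrows A 4, S.Exact → P (S.obj 0) → P (S.obj 1) → P (S.obj 3) → P (S.obj 4) → P (S.obj 2))
    (r : ℕ) (hr : ∀ p n : ℤ, P (K.E r p n)) : P (K.obj.homology n) := by
  have hgr : ∀ p, P ((K.HFil n).gr p) := fun p => by
    obtain ⟨r₀, hst⟩ := stationary K hK p n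
    have := p_page_le P h0 hP K (le_max_left r r₀) hr p n
    rw [FilCx.E, subquot_congr (hst _ (le_max_right r r₀)).1 (hst _ (le_max_right r r₀)).2 _ (BBot_le_ZTop K p n)] at this
    exact P.prop_of_iso (grIso K p n).symm this
  obtain ⟨⟨a, ha⟩, b, hb⟩ := (converges_finite K hK).2.1 n
  have key : ∀ k : ℕ, P (((K.HFil n).fil (b - k)) : A) := by
    intro k
    induction k with
    | zero =>
      rw [show b - ((0 : ℕ) : ℤ) = b by simp, hb]
      exact p_zero P h0 ((isZero_zero A).of_iso Subobject.botCoeIsoZero)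
    | succ k ih =>
      have he : b - ((k + 1 : ℕ) : ℤ) + 1 = b - k := by push_cast; omega
      have hS : (ShortComplex.mk _ _ (cokernel.condition
          ((K.HFil n).stepLE (show b - ((k + 1 : ℕ) : ℤ) ≤ b - ((k + 1 : ℕ) : ℤ) + 1 by omega)))).ShortExact :=
        { exact := ShortComplex.exact_cokernel _, mono_f := inferInstance,
          epi_g := inferInstance }
      refine p_mid P h0 hP _ hS ?_ (hgr _)
      change P (((K.HFil n).fil (b - ((k + 1 : ℕ) : ℤ) + 1)) : A)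
      rw [he]
      exact ih
  have htop : (K.HFil n).fil (b - ((b - a).toNat : ℤ)) = ⊤ :=
    top_le_iff.1 (ha ▸ (K.HFil n).anti (by omega))
  have := key (b - a).toNat
  rw [htop] at this
  exact P.prop_of_iso (asIso (⊤ : Subobject (K.obj.homology n)).arrow) this

end Groth.L10.SpSeqSerre
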