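import Groth.Agent.L10.SpSeq.Elem
import Mathlib.CategoryTheory.Abelian.CommSq

/-! Strict morphisms of filtered objects: composition, pushouts, pullbacks. -/

universe v u

open CategoryTheory CategoryTheory.Limits

set_option backward.defeqAttrib.useBackward true
set_option backward.isDefEq.respectTransparency false
namespace Groth.L10.SpSeqStrict

open Groth.L10.SpSeqElem SpSeq

variable {A : Type u} [Category.{v} A] [Abelian A] {K L M : FilObj A}

theorem mem_compat (f : K ⟶ L) {p : ℤ} {T : A} {x : T ⟶ K.obj} (hx : (K.fil p).Factors x) :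
    (L.fil p).Factors (x ≫ f.hom) :=
  mem_pullback.1 (Subobject.factors_of_le x (f.compat p) hx)

theorem mem_imageFil_of (f : K.obj ⟶ L.obj) {S : Subobject K.obj} {T : A} {k : T ⟶ K.obj} (hk : S.Factors k) :
    (imageSubobject (S.arrow ≫ f)).Factors (k ≫ f) := by
  have := mem_image_of (S.arrow ≫ f) (S.factorThru k hk)
  rwa [Subobject.factorThru_arrow_assoc] at this

theorem mem_imageFil {Z : A} (f : K.obj ⟶ Z) {S : Subobject K.obj} {T : A} {x : T ⟶ Z}
    (hx : (imageSubobject (S.arrow ≫ f)).Factors x) :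
    ∃ (T' : A) (e : T' ⟶ T) (_ : Epi e) (k : T' ⟶ K.obj), S.Factors k ∧ e ≫ x = k ≫ f := by
  obtain ⟨T', e, he, y, hy⟩ := mem_image hx
  exact ⟨T', e, he, y ≫ S.arrow, Subobject.factors_comp_arrow y, by rw [hy, Category.assoc]⟩

theorem le_inf (f : K ⟶ L) (p : ℤ) :
    imageSubobject ((K.fil p).arrow ≫ f.hom) ≤ imageSubobject f.hom ⊓ L.fil p :=
  le_of_mem fun T x hx => by
    obtain ⟨T', e, he, k, hk, h⟩ := mem_imageFil f.hom hx
    exact ⟨T', e, he, (Subobject.inf_factors _).2 ⟨h ▸ mem_image_of f.hom k, h ▸ mem_compat f hk⟩⟩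

/-- `f` is strict iff every element of the target step coming from the source comes from the source step. -/
theorem isStrict_iff (f : K ⟶ L) : FilObj.IsStrict f ↔ ∀ (p : ℤ) ⦃T : A⦄ (y : T ⟶ K.obj),
    (L.fil p).Factors (y ≫ f.hom) →
      ∃ (T' : A) (e : T' ⟶ T) (_ : Epi e) (k : T' ⟶ K.obj), (K.fil p).Factors k ∧ e ≫ y ≫ f.hom = k ≫ f.hom := by
  refine ⟨fun h p T y hy => ?_, fun h p => le_antisymm (le_inf f p) (le_of_mem fun T x hx => ?_)⟩
  · exact mem_imageFil f.hom (h p ▸ (Subobject.inf_factors _).2 ⟨mem_image_of f.hom y, hy⟩)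
  · obtain ⟨hx1, hx2⟩ := (Subobject.inf_factors _).1 hx
    obtain ⟨T₁, e₁, he₁, y, hy⟩ := mem_image hx1
    obtain ⟨T₂, e₂, he₂, k, hk, hke⟩ := h p y (hy ▸ mem_comp e₁ hx2)
    refine ⟨T₂, e₂ ≫ e₁, epi_comp _ _, ?_⟩
    rw [Category.assoc, hy, hke]
    exact mem_imageFil_of f.hom hk

theorem comp_mono (f : K ⟶ L) (g : L ⟶ M) (hf : FilObj.IsStrict f) (hg : FilObj.IsStrict g) [Mono g.hom] :
    FilObj.IsStrict (f ≫ g) := by
  rw [isStrict_iff] at hf hg ⊢
  intro p T y hy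
  change (M.fil p).Factors (y ≫ f.hom ≫ g.hom) at hy
  obtain ⟨T₁, e₁, he₁, l, hl, hle⟩ := hg p (y ≫ f.hom) (by simpa using hy)
  have hl' : (e₁ ≫ y) ≫ f.hom = l := by rw [← cancel_mono g.hom]; simpa using hle
  obtain ⟨T₂, e₂, he₂, k, hk, hke⟩ := hf p (e₁ ≫ y) (hl'.symm ▸ hl)
  refine ⟨T₂, e₂ ≫ e₁, epi_comp _ _, k, hk, ?_⟩
  change _ ≫ y ≫ f.hom ≫ g.hom = k ≫ f.hom ≫ g.hom
  simpa using hke =≫ g.hom

theorem comp_epi (f : K ⟶ L) (g : L ⟶ M) (hf : FilObj.IsStrict f) (hg : FilObj.IsStrict g) [Epi f.hom] :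
    FilObj.IsStrict (f ≫ g) := by
  rw [isStrict_iff] at hf hg ⊢
  intro p T y hy
  change (M.fil p).Factors (y ≫ f.hom ≫ g.hom) at hy
  obtain ⟨T₁, e₁, he₁, l, hl, hle⟩ := hg p (y ≫ f.hom) (by simpa using hy)
  obtain ⟨T₂, e₂, he₂, y', hy'⟩ := surjective_up_to_refinements_of_epi f.hom l
  obtain ⟨T₃, e₃, he₃, k, hk, hke⟩ := hf p y' (hy' ▸ mem_comp e₂ hl)
  refine ⟨T₃, e₃ ≫ e₂ ≫ e₁, inferInstance, k, hk, ?_⟩
  change _ ≫ y ≫ f.hom ≫ g.hom = k ≫ f.hom ≫ g.hom
  calc _ = e₃ ≫ e₂ ≫ l ≫ g.hom := by simp only [Category.assoc]; rw [← hle]; simp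
    _ = _ := by rw [reassoc_of% hy', reassoc_of% hke]

/-! ### Pushouts -/

variable (f : K ⟶ L) (g : K ⟶ M)

noncomputable def po : FilObj A where
  obj := pushout f.hom g.hom
  fil p := imageSubobject ((L.fil p).arrow ≫ pushout.inl f.hom g.hom) ⊔
    imageSubobject ((M.fil p).arrow ≫ pushout.inr f.hom g.hom)
  anti p q h := sup_le_sup
    (SpSeq.FilCx.imageSubobject_le_of_fac (L.stepLE h) (by rw [Subobject.ofLE_arrow_assoc]))
    (SpSeq.FilCx.imageSubobject_le_of_fac (M.stepLE h) (by rw [Subobject.ofLE_arrow_assoc]))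

noncomputable def poInl : L ⟶ po f g :=
  ⟨pushout.inl f.hom g.hom, fun _ => le_of_mem fun T x hx => ⟨T, 𝟙 T, inferInstance, by
    rw [Category.id_comp]
    exact mem_pullback.2 (Subobject.sup_factors_of_factors_left (mem_imageFil_of (L := po f g) _ hx))⟩⟩

noncomputable def poInr : M ⟶ po f g :=
  ⟨pushout.inr f.hom g.hom, fun _ => le_of_mem fun T x hx => ⟨T, 𝟙 T, inferInstance, by
    rw [Category.id_comp]
    exact mem_pullback.2 (Subobject.sup_factors_of_factors_right (mem_imageFil_of (L := po f g) _ hx))⟩⟩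

theorem po_isPushout : IsPushout f g (poInl f g) (poInr f g) := by
  have w : f ≫ poInl f g = g ≫ poInr f g := FilObj.Hom.ext (pushout.condition (f := f.hom) (g := g.hom))
  refine ⟨⟨w⟩, ⟨PushoutCocone.IsColimit.mk w (fun s => ⟨pushout.desc s.inl.hom s.inr.hom
    (congrArg FilObj.Hom.hom s.condition), fun p => ?_⟩) (fun s => ?_) (fun s => ?_) (fun s m h₁ h₂ => ?_)⟩⟩
  · refine sup_le (le_of_mem fun T x hx => ?_) (le_of_mem fun T x hx => ?_)
    all_goals
      obtain ⟨T', e, he, k, hk, h⟩ := mem_imageFil _ hx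
      refine ⟨T', e, he, mem_pullback.2 ?_⟩
      rw [h, Category.assoc]
    · rw [pushout.inl_desc]; exact mem_compat s.inl hk
    · rw [pushout.inr_desc]; exact mem_compat s.inr hk
  · exact FilObj.Hom.ext (pushout.inl_desc _ _ _)
  · exact FilObj.Hom.ext (pushout.inr_desc _ _ _)
  · apply FilObj.Hom.ext
    apply pushout.hom_ext
    · exact (congrArg FilObj.Hom.hom h₁).trans (pushout.inl_desc _ _ _).symm
    · exact (congrArg FilObj.Hom.hom h₂).trans (pushout.inr_desc _ _ _).symm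

theorem pushout_result {K L M : FilObj A} (f : K ⟶ L) (g : K ⟶ M) : HasPushout f g ∧
    ∀ (P : FilObj A) (g' : L ⟶ P) (f' : M ⟶ P), IsPushout f g g' f' → FilObj.IsStrict f → FilObj.IsStrict f' := by
  refine ⟨(po_isPushout f g).hasPushout, fun P g' f' h hs => ?_⟩
  rw [isStrict_iff] at hs ⊢
  intro p T m hm
  let e := h.isoIsPushout _ _ (po_isPushout f g)
  have he1 : f'.hom ≫ e.hom.hom = pushout.inr f.hom g.hom :=
    congrArg FilObj.Hom.hom (h.inr_isoIsPushout_hom _ _ (po_isPushout f g))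
  have heinv : e.hom.hom ≫ e.inv.hom = 𝟙 _ := congrArg FilObj.Hom.hom e.hom_inv_id
  have h0 : ((po f g).fil p).Factors (m ≫ pushout.inr f.hom g.hom) := by
    rw [← he1, ← Category.assoc]
    exact mem_compat e.hom hm
  obtain ⟨T₁, e₁, _, a, b, ha, hb, hab⟩ := mem_sup h0
  obtain ⟨T₂, e₂, _, a', ha', hae⟩ := mem_imageFil _ ha
  obtain ⟨T₃, e₃, _, b', hb', hbe⟩ := mem_imageFil _ (mem_comp e₂ hb)
  let d : T₃ ⟶ M.obj := e₃ ≫ e₂ ≫ e₁ ≫ m - b'
  have hd : (e₃ ≫ a') ≫ pushout.inl f.hom g.hom = d ≫ pushout.inr f.hom g.hom := by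
    simp only [d, Preadditive.sub_comp, Category.assoc]
    rw [hab, ← hbe, ← hae]
    simp only [Preadditive.comp_add]
    exact (add_sub_cancel_right _ _).symm
  have hex := (IsPushout.of_hasPushout f.hom g.hom).exact_shortComplex
  rw [ShortComplex.exact_iff_exact_up_to_refinements] at hex
  obtain ⟨T₄, e₄, _, k, hk⟩ := hex (biprod.lift (e₃ ≫ a') (-d)) (by
    simp [hd, biprod.lift_desc])
  have hk1 : e₄ ≫ e₃ ≫ a' = k ≫ f.hom := by simpa using hk =≫ biprod.fst
  obtain ⟨T₅, e₅, _, k', hk', hke⟩ := hs p k (hk1 ▸ mem_comp e₄ (mem_comp e₃ ha'))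
  refine ⟨T₅, e₅ ≫ e₄ ≫ e₃ ≫ e₂ ≫ e₁, inferInstance, k' ≫ g.hom + e₅ ≫ e₄ ≫ b',
    Subobject.factors_add _ _ (mem_compat g hk') (mem_comp e₅ (mem_comp e₄ hb')), ?_⟩
  have hpc := pushout.condition (f := f.hom) (g := g.hom)
  have key : (e₅ ≫ e₄ ≫ e₃ ≫ e₂ ≫ e₁) ≫ m ≫ pushout.inr f.hom g.hom =
      (k' ≫ g.hom + e₅ ≫ e₄ ≫ b') ≫ pushout.inr f.hom g.hom := by
    simp only [Preadditive.add_comp, Category.assoc]
    rw [← hpc, ← reassoc_of% hke, ← reassoc_of% hk1]
    simp only [Category.assoc] at hd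
    rw [hd]
    simp only [d, Preadditive.sub_comp, Preadditive.comp_sub, Category.assoc]
    abel
  have := key =≫ e.inv.hom
  simp only [← he1, Category.assoc, heinv] at this
  simpa using this

/-! ### Pullbacks -/

section

variable {K L M : FilObj A} (f : L ⟶ K) (g : M ⟶ K)

noncomputable def pb : FilObj A where
  obj := pullback f.hom g.hom
  fil p := (Subobject.pullback (pullback.fst f.hom g.hom)).obj (L.fil p) ⊓
    (Subobject.pullback (pullback.snd f.hom g.hom)).obj (M.fil p)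
  anti _ _ h := inf_le_inf ((Subobject.pullback _).map (homOfLE (L.anti h))).le
    ((Subobject.pullback _).map (homOfLE (M.anti h))).le

noncomputable def pbFst : pb f g ⟶ L := ⟨pullback.fst f.hom g.hom, fun _ => inf_le_left⟩

noncomputable def pbSnd : pb f g ⟶ M := ⟨pullback.snd f.hom g.hom, fun _ => inf_le_right⟩

theorem pb_isPullback : IsPullback (pbFst f g) (pbSnd f g) f g := by
  have w : pbFst f g ≫ f = pbSnd f g ≫ g := FilObj.Hom.ext (pullback.condition (f := f.hom) (g := g.hom))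
  refine ⟨⟨w⟩, ⟨PullbackCone.IsLimit.mk w (fun s => ⟨pullback.lift s.fst.hom s.snd.hom
    (congrArg FilObj.Hom.hom s.condition), fun p => ?_⟩) (fun s => ?_) (fun s => ?_) (fun s m h₁ h₂ => ?_)⟩⟩
  · refine le_of_mem fun T x hx => ⟨T, 𝟙 T, inferInstance, ?_⟩
    rw [Category.id_comp, mem_pullback]
    refine (Subobject.inf_factors _).2 ⟨mem_pullback.2 ?_, mem_pullback.2 ?_⟩ <;> rw [Category.assoc]
    · rw [pullback.lift_fst]; exact mem_compat s.fst hx
    · rw [pullback.lift_snd]; exact mem_compat s.snd hx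
  · exact FilObj.Hom.ext (pullback.lift_fst _ _ _)
  · exact FilObj.Hom.ext (pullback.lift_snd _ _ _)
  · apply FilObj.Hom.ext
    apply pullback.hom_ext
    · exact (congrArg FilObj.Hom.hom h₁).trans (pullback.lift_fst _ _ _).symm
    · exact (congrArg FilObj.Hom.hom h₂).trans (pullback.lift_snd _ _ _).symm

theorem pullback_result : HasPullback f g ∧
    ∀ (P : FilObj A) (g' : P ⟶ L) (f' : P ⟶ M), IsPullback g' f' f g → FilObj.IsStrict f → FilObj.IsStrict f' := by
  refine ⟨(pb_isPullback f g).hasPullback, fun P g' f' h hs => ?_⟩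
  rw [isStrict_iff] at hs ⊢
  intro p T y hy
  let e := h.isoIsPullback _ _ (pb_isPullback f g)
  have he : e.inv.hom ≫ f'.hom = pullback.snd f.hom g.hom :=
    congrArg FilObj.Hom.hom (h.isoIsPullback_inv_snd _ _ (pb_isPullback f g))
  have hw : g'.hom ≫ f.hom = f'.hom ≫ g.hom := congrArg FilObj.Hom.hom h.w
  obtain ⟨T', e', _, l, hl, hle⟩ := hs p (y ≫ g'.hom) (by
    rw [Category.assoc, hw, ← Category.assoc]; exact mem_compat g hy)
  let z : T' ⟶ pullback f.hom g.hom := pullback.lift l (e' ≫ y ≫ f'.hom) (by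
    rw [← hle]; simp [hw])
  have hz : ((pb f g).fil p).Factors z := (Subobject.inf_factors _).2
    ⟨mem_pullback.2 (by rw [pullback.lift_fst]; exact hl),
     mem_pullback.2 (by rw [pullback.lift_snd]; exact mem_comp e' hy)⟩
  refine ⟨T', e', inferInstance, z ≫ e.inv.hom, mem_compat e.inv hz, ?_⟩
  rw [Category.assoc, he, pullback.lift_snd]

end

end Groth.L10.SpSeqStrict
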