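import Groth.Agent.L10.SpSeq.TraceSum

/-! The alternating trace of an abutment. -/

universe u

open CategoryTheory CategoryTheory.Limits

set_option backward.defeqAttrib.useBackward true
set_option backward.isDefEq.respectTransparency false
set_option autoImplicit false

namespace Groth.L10.TraceSum

open SpSeq

theorem fd_T_step (K : FilObj (ModuleCat.{u} (Polynomial ℂ))) (p : ℤ) (h₁ : Fd (K.step (p + 1))) (h₂ : Fd (K.gr p)) :
    Fd (K.step p) ∧ T (K.step p) = T (K.step (p + 1)) + T (K.gr p) := by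
  let h := K.anti (Int.le_add_one (le_refl p))
  have hS : (ShortComplex.mk ((K.fil (p + 1)).ofLE (K.fil p) h) (cokernel.π ((K.fil (p + 1)).ofLE (K.fil p) h))
      (cokernel.condition _)).ShortExact :=
    ShortComplex.ShortExact.mk' (ShortComplex.exact_of_g_is_cokernel _ (cokernelIsCokernel _)) inferInstance inferInstance
  exact ⟨fd_mid hS h₁ h₂, T_add hS (fd_mid hS h₁ h₂)⟩

theorem fd_T_fil (K : FilObj (ModuleCat.{u} (Polynomial ℂ))) (hg : ∀ p, Fd (K.gr p)) (m : ℕ) (p₀ : ℤ)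
    (hb : K.fil (p₀ + m) = ⊥) :
    Fd (K.step p₀) ∧ T (K.step p₀) = ∑ i ∈ Finset.range m, T (K.gr (p₀ + i)) := by
  induction m generalizing p₀ with
  | zero =>
    rw [Nat.cast_zero, add_zero] at hb
    have hz : IsZero (K.step p₀) := by
      change IsZero ((K.fil p₀ : ModuleCat.{u} (Polynomial ℂ)))
      rw [hb]
      exact (isZero_zero _).of_iso Subobject.botCoeIsoZero
    exact ⟨fd_zero hz, by rw [T_zero hz, Finset.range_zero, Finset.sum_empty]⟩
  | succ m ih =>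
    obtain ⟨h₁, h₂⟩ := ih (p₀ + 1) (by rw [← hb]; congr 1; push_cast; omega)
    obtain ⟨h₃, h₄⟩ := fd_T_step K p₀ h₁ (hg p₀)
    refine ⟨h₃, h₄.trans ?_⟩
    rw [h₂, Finset.sum_range_succ']
    simp [add_assoc, add_comm (1 : ℤ)]

theorem fd_T_of_bounds (K : FilObj (ModuleCat.{u} (Polynomial ℂ))) (hK : K.IsFinite) (n : ℕ)
    (hg : ∀ p, Fd (K.gr p)) (hz : ∀ p : ℤ, p < 0 ∨ (n : ℤ) < p → IsZero (K.gr p)) :
    Fd K.obj ∧ T K.obj = ∑ i ∈ Finset.range (n + 1), T (K.gr i) := by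
  have ht := SpSeqAbs.fil_eq_top K hK.1 0 fun p hp => hz p (Or.inl hp)
  have hb := SpSeqAbs.fil_eq_bot K hK.2 ((n : ℤ) + 1) fun p hp => hz p (Or.inr (by omega))
  obtain ⟨h₁, h₂⟩ := fd_T_fil K hg (n + 1) 0 (by rw [← hb]; congr 1; push_cast; omega)
  have : IsIso (K.fil 0).arrow := (Subobject.isIso_arrow_iff_eq_top _).2 ht
  have e := asIso (K.fil 0).arrow
  refine ⟨fd_iso e h₁, ?_⟩
  rw [T_iso e.symm h₁, h₂]
  simp

variable {E : E₂CohomologicalSpectralSequence (ModuleCat.{u} (Polynomial ℂ))}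
variable {N : ℕ} {a c : ℕ → ℝ} {b d : ℕ → ℕ}

theorem bdd_add (h : Bdd E N a c b d 2 le_rfl) (k : ℕ) : Bdd E N a c b d (2 + k) (by omega) := by
  induction k with
  | zero => simpa using h
  | succ k ih =>
    have := bdd_succ ih
    convert this using 1
    push_cast; ring

theorem altSum_add (ha : ∀ q, 0 ≤ a q) (hc : ∀ p, 0 ≤ c p) (hsum : Summable fun p : ℕ => c p * (d p : ℝ))
    (h : Bdd E N a c b d 2 le_rfl) (k : ℕ) :
    altSum (E := E) (2 + k) (by omega) = altSum (E := E) 2 le_rfl := by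
  induction k with
  | zero => simp
  | succ k ih =>
    rw [← ih, ← altSum_succ ha hc hsum (bdd_add h k)]
    congr 1

theorem stationaryAt_of_top (h : Bdd E N a c b d 2 le_rfl) (pq : ℤ × ℤ) :
    StationaryAt E pq (2 + N) := by
  refine ⟨by omega, fun r hr₀ hr => ?_⟩
  obtain ⟨k, rfl⟩ : ∃ k : ℕ, r = 2 + k := ⟨(r - 2).toNat, by omega⟩
  have hb := bdd_add h k
  have key : ∀ x y : ℤ × ℤ, y = x + (((2 : ℤ) + (k : ℤ), 1 - ((2 : ℤ) + (k : ℤ))) : ℤ × ℤ) → (E.page _ hr₀).d x y = 0 := by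
    rintro ⟨p, q⟩ _ rfl
    by_cases hx : p < 0 ∨ q < 0
    · exact (hb.quad _ hx).eq_of_src _ _
    · by_cases hq : (N : ℤ) < q
      · obtain ⟨p', rfl⟩ : ∃ p' : ℕ, p = p' := ⟨p.toNat, by omega⟩
        obtain ⟨q', rfl⟩ : ∃ q' : ℕ, q = q' := ⟨q.toNat, by omega⟩
        exact (hb.top p' q' (by omega)).eq_of_src _ _
      · exact (hb.quad _ (Or.inr (by simp only [Prod.snd_add]; omega))).eq_of_tgt _ _
  exact ⟨key _ _ (sub_add_cancel _ _).symm, key _ _ rfl⟩

theorem fd_T_abutment {H : ℤ → ModuleCat.{u} (Polynomial ℂ)} (ab : Abutment E H) (hfin : ∀ n, ab.IsFinite n)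
    (h : Bdd E N a c b d 2 le_rfl) (n : ℕ) :
    Fd (H n) ∧ T (H n) = ∑ x ∈ Finset.antidiagonal n,
      T ((E.page (2 + (N : ℤ)) (by omega)).X ((x.1 : ℤ), (x.2 : ℤ))) := by
  have hb := bdd_add h N
  have he : ∀ p : ℤ, Nonempty ((ab.filObj n).gr p ≅ (E.page (2 + (N : ℤ)) (by omega)).X (p, (n : ℤ) - p)) := fun p => by
    obtain ⟨e⟩ := SpSeqAbs.β' ab n p
    obtain ⟨e'⟩ := SpSeqAbs.nonempty_iso E (ab.stat _) (stationaryAt_of_top h (p, (n : ℤ) - p))
    exact ⟨e.symm ≪≫ e'⟩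
  obtain ⟨h₁, h₂⟩ := fd_T_of_bounds (ab.filObj n) (hfin n) n
    (fun p => fd_iso (he p).some.symm (hb.fd _))
    (fun p hp => (hb.quad _ (hp.imp id fun hp => by simp only; omega)).of_iso (he p).some)
  refine ⟨h₁, h₂.trans ?_⟩
  rw [Finset.Nat.sum_antidiagonal_eq_sum_range_succ_mk]
  refine Finset.sum_congr rfl fun i hi => ?_
  have : i ≤ n := Nat.lt_succ_iff.1 (Finset.mem_range.1 hi)
  rw [T_iso (he i).some (hb.fd _)]
  simp only
  rw [Nat.cast_sub this]

theorem abutment_altSum {H : ℤ → ModuleCat.{u} (Polynomial ℂ)} (ab : Abutment E H) (hfin : ∀ n, ab.IsFinite n)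
    (ha : ∀ q, 0 ≤ a q) (hc : ∀ p, 0 ≤ c p) (hsum : Summable fun p : ℕ => c p * (d p : ℝ))
    (h : Bdd E N a c b d 2 le_rfl) :
    Summable (fun n : ℕ => ‖T (H n)‖) ∧ ∑' n : ℕ, (-1 : ℂ) ^ n * T (H n) =
      ∑' pq : ℕ × ℕ, (-1 : ℂ) ^ (pq.1 + pq.2) * T ((E.page 2 le_rfl).X ((pq.1 : ℤ), (pq.2 : ℤ))) := by
  have hb := bdd_add h N
  let f : ℕ × ℕ → ℂ := fun x => T ((E.page (2 + (N : ℤ)) (by omega)).X ((x.1 : ℤ), (x.2 : ℤ)))
  have hT : ∀ n : ℕ, T (H n) = ∑ x ∈ Finset.antidiagonal n, f x := fun n => (fd_T_abutment ab hfin h n).2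
  have hs : Summable fun x => ‖f x‖ := by
    have hi : Function.Injective fun x : ℕ × ℕ => ((x.1 : ℤ), (x.2 : ℤ)) := fun x y e => by
      simp only [Prod.mk.injEq, Nat.cast_inj] at e
      exact Prod.ext e.1 e.2
    exact (summable_of_le ha hc hsum hb _ (fun pq => le_iso (Iso.refl _) (hb.fd pq)) (fun _ hz => hz)).comp_injective hi
  let e := Finset.HasAntidiagonal.sigmaAntidiagonalEquivProd (A := ℕ)
  constructor
  · have h1 : Summable fun n : ℕ => ∑ x ∈ Finset.antidiagonal n, ‖f x‖ := by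
      have h2 := (e.summable_iff.2 hs).sigma' (fun n => Summable.of_finite)
      refine h2.congr fun n => ?_
      rw [tsum_fintype]
      exact Finset.sum_coe_sort (Finset.antidiagonal n) fun x => ‖f x‖
    refine Summable.of_nonneg_of_le (fun n => norm_nonneg _) (fun n => ?_) h1
    rw [hT]
    exact norm_sum_le _ _
  · have hg : Summable fun x : ℕ × ℕ => (-1 : ℂ) ^ (x.1 + x.2) * f x :=
      Summable.of_norm (hs.congr fun x => by simp)
    refine Eq.trans ?_ ((altSum_eq hb).symm.trans ((altSum_add ha hc hsum h N).trans (altSum_eq h)))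
    have hg' : Summable fun x => (-1 : ℂ) ^ ((e x).1 + (e x).2) * f (e x) := e.summable_iff.2 hg
    rw [← e.tsum_eq fun x => (-1 : ℂ) ^ (x.1 + x.2) * f x,
      hg'.tsum_sigma' (fun n => Summable.of_finite)]
    refine tsum_congr fun n => ?_
    rw [hT, Finset.mul_sum, tsum_fintype]
    refine Eq.trans (Finset.sum_congr rfl fun x hx => ?_)
      (Finset.sum_coe_sort (Finset.antidiagonal n) fun x => (-1 : ℂ) ^ (x.1 + x.2) * f x).symm
    rw [Finset.mem_antidiagonal.1 hx]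

end Groth.L10.TraceSum
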