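import Mathlib.LinearAlgebra.Eigenspace.Charpoly
import Mathlib.LinearAlgebra.Charpoly.Basic
import Mathlib.Analysis.Complex.Polynomial.Basic
import Mathlib.Topology.Algebra.InfiniteSum.Basic
import Mathlib.Analysis.Normed.Group.InfiniteSum
import Mathlib.LinearAlgebra.Trace

/-! Trace bounded by dimension times spectral radius; summability on `ℕ × [0, N]`. -/

namespace Groth.L10.TraceBound

theorem norm_trace_le {V : Type*} [AddCommGroup V] [Module ℂ V] [FiniteDimensional ℂ V] (f : V →ₗ[ℂ] V)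
    (B : ℝ) (hB : ∀ μ : ℂ, Module.End.HasEigenvalue f μ → ‖μ‖ ≤ B) :
    ‖LinearMap.trace ℂ V f‖ ≤ (Module.finrank ℂ V : ℝ) * B := by
  have hs : f.charpoly.Splits := IsAlgClosed.splits _
  rw [Module.End.trace_eq_sum_roots_charpoly_of_splits hs]
  refine (norm_multiset_sum_le _).trans ?_
  refine (Multiset.sum_le_card_nsmul _ B ?_).trans ?_
  · intro x hx
    obtain ⟨μ, hμ, rfl⟩ := Multiset.mem_map.1 hx
    exact hB μ ((Module.End.hasEigenvalue_iff_isRoot_charpoly f μ).2 (Polynomial.isRoot_of_mem_roots hμ))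
  · rw [Multiset.card_map, ← hs.natDegree_eq_card_roots, LinearMap.charpoly_natDegree, nsmul_eq_mul]

/-- A family on `ℕ × ℕ` bounded by `e q * g p` and zero for `N < q` is summable. -/
theorem summable_band (F : ℕ × ℕ → ℝ) (hF : ∀ x, 0 ≤ F x) (N : ℕ) (e : ℕ → ℝ) (g : ℕ → ℝ)
    (hg : Summable g) (hb : ∀ p q, F (p, q) ≤ e q * g p) (hz : ∀ p q, N < q → F (p, q) = 0) : Summable F := by
  classical
  have h1 : Summable fun x : ℕ × ℕ =>
      ∑ j ∈ Finset.range (N + 1), if x.2 = j then |e j * g x.1| else 0 := by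
    refine summable_sum fun j _ => ?_
    have hi : Function.Injective fun p : ℕ => (p, j) := fun a b h => (Prod.ext_iff.1 h).1
    refine (Function.Injective.summable_iff hi ?_).1 ?_
    · rintro ⟨p, q⟩ hx
      rw [if_neg]
      rintro rfl
      exact hx ⟨p, rfl⟩
    · simpa [Function.comp_def] using (hg.mul_left (e j)).abs
  refine Summable.of_nonneg_of_le hF (fun ⟨p, q⟩ => ?_) h1
  by_cases hq : N < q
  · rw [hz p q hq]; exact Finset.sum_nonneg fun j _ => by split_ifs <;> positivity
  · rw [Finset.sum_ite_eq, if_pos (Finset.mem_range.2 (by omega))]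
    exact (hb p q).trans (le_abs_self _)

end Groth.L10.TraceBound
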