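import Groth.Agent.L10.SpSeq.Abstract
import Groth.Agent.L10.SpSeq.TraceBound
import Groth.Agent.L21.Tame.Different
import Mathlib.Algebra.Category.ModuleCat.ChangeOfRings
import Mathlib.Algebra.Category.ModuleCat.Abelian
import Mathlib.Algebra.Homology.ShortComplex.ModuleCat
import Mathlib.RingTheory.Polynomial.Basic
import Mathlib.LinearAlgebra.Eigenspace.Minpoly
import Mathlib.Topology.Algebra.InfiniteSum.Ring
import Mathlib.Algebra.Order.Antidiag.Prod
import Mathlib.Data.Finset.NatAntidiagonal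

/-! Traces of an endomorphism along a spectral sequence of `ℂ[X]`-modules. -/

universe u

open CategoryTheory CategoryTheory.Limits
open scoped ZeroObject

set_option backward.defeqAttrib.useBackward true
set_option backward.isDefEq.respectTransparency false
set_option autoImplicit false

namespace Groth.L10.TraceSum

/-- The underlying vector spaces. -/
noncomputable abbrev res : ModuleCat.{u} (Polynomial ℂ) ⥤ ModuleCat.{u} ℂ :=
  ModuleCat.restrictScalars (algebraMap ℂ (Polynomial ℂ))

/-- The action of `X`. -/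
noncomputable abbrev act (M : ModuleCat.{u} (Polynomial ℂ)) : res.obj M →ₗ[ℂ] res.obj M :=
  (res.map ((Polynomial.X : Polynomial ℂ) • 𝟙 M)).hom

/-- The trace of `X`. -/
noncomputable def T (M : ModuleCat.{u} (Polynomial ℂ)) : ℂ := LinearMap.trace ℂ _ (act M)

/-- The dimension. -/
noncomputable def rk (M : ModuleCat.{u} (Polynomial ℂ)) : ℕ := Module.finrank ℂ (res.obj M)

/-- Finite dimensionality. -/
abbrev Fd (M : ModuleCat.{u} (Polynomial ℂ)) : Prop := Module.Finite ℂ (res.obj M)

theorem act_comm {M N : ModuleCat.{u} (Polynomial ℂ)} (f : M ⟶ N) :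
    act N ∘ₗ (res.map f).hom = (res.map f).hom ∘ₗ act M := by
  refine LinearMap.ext fun x => ?_
  exact ((ModuleCat.Hom.hom f).map_smul Polynomial.X x).symm

theorem hasEigenvalue_of_intertwine {V W : Type*} [AddCommGroup V] [Module ℂ V] [AddCommGroup W] [Module ℂ W]
    [FiniteDimensional ℂ V] (f : V →ₗ[ℂ] V) (g : W →ₗ[ℂ] W) (μ : ℂ) (hμ : Module.End.HasEigenvalue g μ)
    (h : (∃ i : W →ₗ[ℂ] V, Function.Injective i ∧ f ∘ₗ i = i ∘ₗ g) ∨
      (∃ π : V →ₗ[ℂ] W, Function.Surjective π ∧ g ∘ₗ π = π ∘ₗ f)) : Module.End.HasEigenvalue f μ := by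
  obtain ⟨w, hw, hw0⟩ := hμ.exists_hasEigenvector
  rw [Module.End.mem_eigenspace_iff] at hw
  rcases h with ⟨i, hi, hfi⟩ | ⟨π, hπ, hgπ⟩
  · refine Module.End.hasEigenvalue_of_hasEigenvector (x := i w) ⟨?_, fun e => hw0 (hi (e.trans (map_zero i).symm))⟩
    rw [Module.End.mem_eigenspace_iff]
    exact (LinearMap.congr_fun hfi w).trans ((congrArg i hw).trans (map_smul i μ w))
  · have hp : ∀ (p : Polynomial ℂ) (v : V), Polynomial.aeval g p (π v) = π (Polynomial.aeval f p v) := by
      intro p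
      induction p using Polynomial.induction_on' with
      | add p q hp hq => intro v; simp [hp v, hq v]
      | monomial k c =>
        intro v
        simp only [Polynomial.aeval_monomial, Module.End.mul_apply, Module.algebraMap_end_apply, map_smul]
        congr 1
        induction k with
        | zero => simp
        | succ k ih =>
          rw [pow_succ', pow_succ', Module.End.mul_apply, Module.End.mul_apply, ih]
          exact LinearMap.congr_fun hgπ _
    obtain ⟨v, rfl⟩ := hπ w
    refine Module.End.hasEigenvalue_iff_isRoot.2 ?_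
    by_contra hne
    have h0 := hp (minpoly ℂ f) v
    rw [minpoly.aeval, LinearMap.zero_apply, map_zero,
      Module.End.aeval_apply_of_hasEigenvector (μ := μ) (x := π v) ⟨by rwa [Module.End.mem_eigenspace_iff], hw0⟩] at h0
    exact hne ((smul_eq_zero.1 h0).resolve_right hw0)

section SES

variable {S : ShortComplex (ModuleCat.{u} (Polynomial ℂ))} (hS : S.ShortExact)

include hS in
theorem injective_f : Function.Injective (res.map S.f).hom := hS.moduleCat_injective_f

include hS in
theorem surjective_g : Function.Surjective (res.map S.g).hom := hS.moduleCat_surjective_g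

include hS in
theorem fd_left (h : Fd S.X₂) : Fd S.X₁ :=
  have := h
  FiniteDimensional.of_injective (res.map S.f).hom (injective_f hS)

include hS in
theorem fd_right (h : Fd S.X₂) : Fd S.X₃ :=
  have := h
  Module.Finite.of_surjective (res.map S.g).hom (surjective_g hS)

include hS in
theorem exact_res : Function.Exact (res.map S.f).hom (res.map S.g).hom :=
  (ShortComplex.ShortExact.moduleCat_exact_iff_function_exact S).1 hS.exact

include hS in
theorem fd_mid (h₁ : Fd S.X₁) (h₃ : Fd S.X₃) : Fd S.X₂ :=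
  have := h₁
  have := h₃
  Module.Finite.of_exact (exact_res hS) (surjective_g hS)

include hS in
theorem T_add (h : Fd S.X₂) : T S.X₂ = T S.X₁ + T S.X₃ :=
  have := h
  Groth.L21.Tame.trace_eq_add_of_exact _ _ (injective_f hS) (surjective_g hS) (exact_res hS) _ _ _
    (act_comm S.f) (act_comm S.g).symm

include hS in
theorem rk_left (h : Fd S.X₂) : rk S.X₁ ≤ rk S.X₂ :=
  have := h
  LinearMap.finrank_le_finrank_of_injective (injective_f hS)

include hS in
theorem rk_right (h : Fd S.X₂) : rk S.X₃ ≤ rk S.X₂ :=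
  have := h
  LinearMap.finrank_le_finrank_of_surjective (surjective_g hS)

include hS in
theorem eig_left (h : Fd S.X₂) {μ : ℂ} (hμ : Module.End.HasEigenvalue (act S.X₁) μ) :
    Module.End.HasEigenvalue (act S.X₂) μ :=
  have := h
  hasEigenvalue_of_intertwine _ _ μ hμ (Or.inl ⟨_, injective_f hS, act_comm S.f⟩)

include hS in
theorem eig_right (h : Fd S.X₂) {μ : ℂ} (hμ : Module.End.HasEigenvalue (act S.X₃) μ) :
    Module.End.HasEigenvalue (act S.X₂) μ :=
  have := h
  hasEigenvalue_of_intertwine _ _ μ hμ (Or.inr ⟨_, surjective_g hS, act_comm S.g⟩)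

end SES

theorem fd_zero {M : ModuleCat.{u} (Polynomial ℂ)} (h : IsZero M) : Fd M :=
  have : Subsingleton (res.obj M) := ModuleCat.subsingleton_of_isZero (res.map_isZero h)
  inferInstance

theorem T_zero {M : ModuleCat.{u} (Polynomial ℂ)} (h : IsZero M) : T M = 0 := by
  have : Subsingleton (res.obj M) := ModuleCat.subsingleton_of_isZero (res.map_isZero h)
  rw [T, show act M = 0 from LinearMap.ext fun x => Subsingleton.elim _ _, map_zero]

theorem shortExact_iso {M N : ModuleCat.{u} (Polynomial ℂ)} (e : M ≅ N) :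
    (ShortComplex.mk e.hom (0 : N ⟶ (0 : ModuleCat.{u} (Polynomial ℂ))) comp_zero).ShortExact := by
  refine ShortComplex.ShortExact.mk' ?_ inferInstance
    ⟨fun _ _ _ => (isZero_zero _).eq_of_src _ _⟩
  exact (ShortComplex.exact_iff_epi _ rfl).2 inferInstance

/-- A module is dominated by another one: dimension and spectrum. -/
def Le (M N : ModuleCat.{u} (Polynomial ℂ)) : Prop :=
  Fd M ∧ rk M ≤ rk N ∧ ∀ μ, Module.End.HasEigenvalue (act M) μ → Module.End.HasEigenvalue (act N) μ

theorem Le.trans {L M N : ModuleCat.{u} (Polynomial ℂ)} (h : Le L M) (h' : Le M N) : Le L N :=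
  ⟨h.1, h.2.1.trans h'.2.1, fun μ hμ => h'.2.2 μ (h.2.2 μ hμ)⟩

theorem fd_iso {M N : ModuleCat.{u} (Polynomial ℂ)} (e : M ≅ N) (h : Fd M) : Fd N :=
  fd_left (shortExact_iso e.symm) h

theorem T_iso {M N : ModuleCat.{u} (Polynomial ℂ)} (e : M ≅ N) (h : Fd N) : T M = T N := by
  have := T_add (shortExact_iso e) h
  rw [T_zero (isZero_zero _), add_zero] at this
  exact this.symm

theorem le_iso {M N : ModuleCat.{u} (Polynomial ℂ)} (e : M ≅ N) (h : Fd N) : Le M N :=
  ⟨fd_left (shortExact_iso e) h, rk_left (shortExact_iso e) h, fun _ => eig_left (shortExact_iso e) h⟩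

theorem shortExact_image {M N : ModuleCat.{u} (Polynomial ℂ)} (f : M ⟶ N) :
    (ShortComplex.mk (kernel.ι f) (Abelian.factorThruImage f) (by
      rw [← cancel_mono (Abelian.image.ι f), Category.assoc, Abelian.image.fac, kernel.condition, zero_comp])).ShortExact := by
  refine ShortComplex.ShortExact.mk' ?_ inferInstance inferInstance
  refine ShortComplex.exact_of_f_is_kernel _ (KernelFork.IsLimit.ofι' _ _ fun {A} k hk =>
    ⟨kernel.lift f k (by rw [← Abelian.image.fac f, ← Category.assoc, hk, zero_comp]), kernel.lift_ι _ _ _⟩)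

theorem shortExact_toCycles (S : ShortComplex (ModuleCat.{u} (Polynomial ℂ))) :
    (ShortComplex.mk (Abelian.image.ι S.toCycles) S.homologyπ (by
      rw [← cancel_epi (Abelian.factorThruImage S.toCycles), ← Category.assoc, Abelian.image.fac,
        S.toCycles_comp_homologyπ, comp_zero])).ShortExact := by
  refine ShortComplex.ShortExact.mk' ?_ inferInstance inferInstance
  refine ShortComplex.exact_of_g_is_cokernel _ (CokernelCofork.IsColimit.ofπ' _ _ fun {A} k hk =>
    ⟨S.descHomology k (by rw [← Abelian.image.fac S.toCycles, Category.assoc, hk, comp_zero]), S.π_descHomology _ _⟩)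

/-- The rank of `f`, traced. -/
noncomputable def β {M N : ModuleCat.{u} (Polynomial ℂ)} (f : M ⟶ N) : ℂ := T M - T (kernel f)

theorem β_eq {M N : ModuleCat.{u} (Polynomial ℂ)} (f : M ⟶ N) (h : Fd M) : β f = T (Abelian.image f) := by
  rw [β, T_add (shortExact_image f) h]
  exact add_sub_cancel_left _ _

theorem β_zero {M N : ModuleCat.{u} (Polynomial ℂ)} (h : Fd M) : β (0 : M ⟶ N) = 0 := by
  rw [β, T_iso (asIso (kernel.ι (0 : M ⟶ N))) h, sub_self]

theorem le_image {M N : ModuleCat.{u} (Polynomial ℂ)} (f : M ⟶ N) (h : Fd M) : Le (Abelian.image f) M :=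
  ⟨fd_right (shortExact_image f) h, rk_right (shortExact_image f) h, fun _ => eig_right (shortExact_image f) h⟩

theorem homology_spec (S : ShortComplex (ModuleCat.{u} (Polynomial ℂ))) (h₁ : Fd S.X₁) (h₂ : Fd S.X₂) :
    T S.homology = T S.X₂ - β S.g - β S.f ∧ Le S.homology S.X₂ := by
  have hk : Le S.cycles S.X₂ := by
    refine (le_iso S.cyclesIsoKernel (fd_left (shortExact_image S.g) h₂)).trans ?_
    exact ⟨fd_left (shortExact_image S.g) h₂, rk_left (shortExact_image S.g) h₂,
      fun _ => eig_left (shortExact_image S.g) h₂⟩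
  have hH : Le S.homology S.cycles :=
    ⟨fd_right (shortExact_toCycles S) hk.1, rk_right (shortExact_toCycles S) hk.1,
      fun _ => eig_right (shortExact_toCycles S) hk.1⟩
  refine ⟨?_, hH.trans hk⟩
  have e₁ := T_add (shortExact_toCycles S) hk.1
  have e₂ : T (Abelian.image S.toCycles) = β S.f := by
    rw [← β_eq _ h₁, β, β]
    congr 1
    exact T_iso ((kernelCompMono S.toCycles S.iCycles).symm ≪≫ kernelIsoOfEq S.toCycles_i)
      (fd_left (shortExact_image S.f) h₁)
  rw [T_iso S.cyclesIsoKernel (fd_left (shortExact_image S.g) h₂)] at e₁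
  rw [β]
  simp only at e₁
  linear_combination (norm := ring) -e₁ - e₂

section SpSeq

variable (E : E₂CohomologicalSpectralSequence (ModuleCat.{u} (Polynomial ℂ)))
variable (N : ℕ) (a c : ℕ → ℝ) (b d : ℕ → ℕ)

/-- The boundedness condition of a page. -/
structure Bdd (r : ℤ) (hr : 2 ≤ r) : Prop where
  quad : ∀ pq : ℤ × ℤ, pq.1 < 0 ∨ pq.2 < 0 → IsZero ((E.page r hr).X pq)
  fd : ∀ pq : ℤ × ℤ, Fd ((E.page r hr).X pq)
  top : ∀ p q : ℕ, N < q → IsZero ((E.page r hr).X ((p : ℤ), (q : ℤ)))
  eig : ∀ (p q : ℕ) (μ : ℂ),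
    Module.End.HasEigenvalue (act ((E.page r hr).X ((p : ℤ), (q : ℤ)))) μ → ‖μ‖ ≤ a q * c p
  dim : ∀ p q : ℕ, rk ((E.page r hr).X ((p : ℤ), (q : ℤ))) ≤ b q * d p

variable {E N a c b d} {r : ℤ} {hr : 2 ≤ r}

theorem page_spec (h : Bdd E N a c b d r hr) (pq : ℤ × ℤ) :
    T ((E.page (r + 1) (Int.le_add_one hr)).X pq) = T ((E.page r hr).X pq) -
      β ((E.page r hr).d pq (pq + (r, 1 - r))) - β ((E.page r hr).d (pq - (r, 1 - r)) pq) ∧
      Le ((E.page (r + 1) (Int.le_add_one hr)).X pq) ((E.page r hr).X pq) := by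
  let K := E.page r hr
  let S := K.sc' (pq - (r, 1 - r)) pq (pq + (r, 1 - r))
  obtain ⟨h₁, h₂⟩ := homology_spec S (h.fd _) (h.fd _)
  have e : (E.page (r + 1) (Int.le_add_one hr)).X pq ≅ S.homology :=
    (E.iso r (r + 1) pq rfl hr).symm ≪≫
      (K.homologyIsoSc' (pq - (r, 1 - r)) pq (pq + (r, 1 - r))
        (ComplexShape.prev_eq' _ (sub_add_cancel _ _)) (ComplexShape.next_eq' _ rfl))
  exact ⟨(T_iso e h₂.1).trans h₁, (le_iso e h₂.1).trans h₂⟩

theorem bdd_succ (h : Bdd E N a c b d r hr) : Bdd E N a c b d (r + 1) (Int.le_add_one hr) where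
  quad pq hpq := SpSeqAbs.isZero_succ E r (r + 1) rfl hr pq (h.quad pq hpq)
  fd pq := (page_spec h pq).2.1
  top p q hq := SpSeqAbs.isZero_succ E r (r + 1) rfl hr _ (h.top p q hq)
  eig p q μ hμ := h.eig p q μ ((page_spec h _).2.2.2 μ hμ)
  dim p q := (page_spec h _).2.2.1.trans (h.dim p q)

variable (ha : ∀ q, 0 ≤ a q) (hc : ∀ p, 0 ≤ c p) (hsum : Summable fun p : ℕ => c p * (d p : ℝ))

include ha hc hsum in
theorem summable_of_le (h : Bdd E N a c b d r hr) (M : ℤ × ℤ → ModuleCat.{u} (Polynomial ℂ))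
    (hM : ∀ pq, Le (M pq) ((E.page r hr).X pq)) (hz : ∀ pq, IsZero ((E.page r hr).X pq) → IsZero (M pq)) :
    Summable fun pq => ‖T (M pq)‖ := by
  have hi : Function.Injective fun x : ℕ × ℕ => ((x.1 : ℤ), (x.2 : ℤ)) := fun x y e => by
    simp only [Prod.mk.injEq, Nat.cast_inj] at e
    exact Prod.ext e.1 e.2
  refine (hi.summable_iff ?_).1 ?_
  · rintro ⟨p, q⟩ hpq
    have : p < 0 ∨ q < 0 := by
      by_contra hne
      exact hpq ⟨(p.toNat, q.toNat), by simp only [Prod.mk.injEq]; omega⟩
    rw [T_zero (hz _ (h.quad _ this)), norm_zero]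
  · refine TraceBound.summable_band _ (fun x => norm_nonneg _) N (fun q => (b q : ℝ) * a q)
      (fun p => c p * (d p : ℝ)) hsum (fun p q => ?_) (fun p q hq => ?_)
    · obtain ⟨hf, hr', he⟩ := hM ((p : ℤ), (q : ℤ))
      have := hf
      refine (TraceBound.norm_trace_le (act (M ((p : ℤ), (q : ℤ)))) _ fun μ hμ => h.eig p q μ (he μ hμ)).trans ?_
      have h3 : (Module.finrank ℂ (res.obj (M ((p : ℤ), (q : ℤ)))) : ℝ) ≤ (b q : ℝ) * d p := by
        exact_mod_cast hr'.trans (h.dim p q)
      calc _ ≤ ((b q : ℝ) * d p) * (a q * c p) := mul_le_mul_of_nonneg_right h3 (mul_nonneg (ha q) (hc p))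
        _ = _ := by ring
    · simp [T_zero (hz _ (h.top p q hq))]

/-- The sign. -/
noncomputable def sgn (pq : ℤ × ℤ) : ℂ := (-1 : ℂ) ^ (pq.1 + pq.2)

theorem norm_sgn (pq : ℤ × ℤ) : ‖sgn pq‖ = 1 := by simp [sgn]

/-- The alternating sum of the traces on a page. -/
noncomputable def altSum (r : ℤ) (hr : 2 ≤ r) : ℂ := ∑' pq : ℤ × ℤ, sgn pq * T ((E.page r hr).X pq)

theorem altSum_eq (h : Bdd E N a c b d r hr) :
    altSum (E := E) r hr = ∑' pq : ℕ × ℕ, (-1 : ℂ) ^ (pq.1 + pq.2) * T ((E.page r hr).X ((pq.1 : ℤ), (pq.2 : ℤ))) := by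
  have hi : Function.Injective fun x : ℕ × ℕ => ((x.1 : ℤ), (x.2 : ℤ)) := fun x y e => by
    simp only [Prod.mk.injEq, Nat.cast_inj] at e
    exact Prod.ext e.1 e.2
  rw [altSum, ← hi.tsum_eq]
  · refine tsum_congr fun x => ?_
    simp only [sgn]
    rw [← Nat.cast_add, zpow_natCast]
  · rintro ⟨p, q⟩ hpq
    by_contra hne
    have : p < 0 ∨ q < 0 := by
      by_contra hne'
      exact hne ⟨(p.toNat, q.toNat), by simp only [Prod.mk.injEq]; omega⟩
    exact hpq (by simp [T_zero (h.quad (p, q) this)])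

include ha hc hsum in
theorem altSum_succ (h : Bdd E N a c b d r hr) :
    altSum (E := E) (r + 1) (Int.le_add_one hr) = altSum (E := E) r hr := by
  let δ : ℤ × ℤ := (r, 1 - r)
  let g : ℤ × ℤ → ℂ := fun pq => sgn pq * β ((E.page r hr).d pq (pq + δ))
  have hg : Summable g := by
    refine Summable.of_norm ?_
    have := summable_of_le ha hc hsum h (fun pq => Abelian.image ((E.page r hr).d pq (pq + δ)))
      (fun pq => le_image _ (h.fd pq))
      (fun pq hz => IsZero.of_epi (Abelian.factorThruImage ((E.page r hr).d pq (pq + δ))) hz)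
    refine this.congr fun pq => ?_
    simp [g, norm_sgn, β_eq _ (h.fd pq)]
  have hT : Summable fun pq => sgn pq * T ((E.page r hr).X pq) := by
    refine Summable.of_norm ?_
    refine (summable_of_le ha hc hsum h _ (fun pq => le_iso (Iso.refl _) (h.fd pq)) (fun _ hz => hz)).congr fun pq => ?_
    simp [norm_sgn]
  have key : ∀ pq, sgn pq * T ((E.page (r + 1) (Int.le_add_one hr)).X pq) =
      sgn pq * T ((E.page r hr).X pq) - (g pq - (g ∘ Equiv.addRight (-δ)) pq) := fun pq => by
    have hs : sgn pq = - sgn (pq - δ) := by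
      simp only [sgn, δ, Prod.fst_sub, Prod.snd_sub]
      rw [show pq.1 - r + (pq.2 - (1 - r)) = pq.1 + pq.2 - 1 by ring, zpow_sub₀ (by norm_num)]
      simp [div_neg]
    have hd : ((g ∘ Equiv.addRight (-δ)) pq : ℂ) = sgn (pq - δ) * β ((E.page r hr).d (pq - δ) pq) := by
      have hh : ∀ x y, x + δ = y → β ((E.page r hr).d x (x + δ)) = β ((E.page r hr).d x y) := by
        rintro x y rfl; rfl
      simp only [g, Function.comp_apply, Equiv.coe_addRight, ← sub_eq_add_neg]
      rw [hh _ pq (sub_add_cancel _ _)]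
    rw [(page_spec h pq).1, hd, hs]
    simp only [g, δ]
    rw [hs]
    ring
  have hg' : Summable (g ∘ Equiv.addRight (-δ)) := (Equiv.addRight (-δ)).summable_iff.2 hg
  rw [altSum, altSum, tsum_congr key, hT.tsum_sub (hg.sub hg'), hg.tsum_sub hg',
    show (∑' pq, (g ∘ Equiv.addRight (-δ)) pq) = ∑' pq, g pq from (Equiv.addRight (-δ)).tsum_eq g, sub_self, sub_zero]

end SpSeq

end Groth.L10.TraceSum
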